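import Groth.Agent.StFib.ConstQuot.Inv
import Mathlib.AlgebraicGeometry.Sites.MorphismProperty

/-!
# The spectrum of the invariants is the categorical quotient among algebraic spaces
-/

set_option autoImplicit false
set_option linter.unusedVariables false
set_option linter.unusedSectionVars false
set_option linter.style.haveILetI false
set_option backward.isDefEq.respectTransparency false
set_option backward.isDefEq.respectTransparency.types false
set_option maxHeartbeats 1600000

universe u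

open CategoryTheory CategoryTheory.Limits AlgebraicGeometry Opposite MonoidalCategory CartesianMonoidalCategory
open CoactBr (sp pt pt_comp pt_id pt_injective)
open scoped TensorProduct

namespace Groth.Agent.StFib.ConstQuot

section

variable {S : Scheme.{u}}

/-- A jointly surjective family of étale maps covers. -/
theorem ofArrows_mem_J {U : Over S} {ι : Type*} {V : ι → Over S} (f : ∀ i, V i ⟶ U) (he : ∀ i, Etale (f i).left)
    (hs : ∀ x : U.left, ∃ i, x ∈ Set.range (f i).left) :
    Sieve.generate (Presieve.ofArrows V f) ∈ AlgSp.J S U := by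
  refine Groth.Agent.AlgSp.mem_of_cover (R := Presieve.ofArrows (fun i => (V i).left) fun i => (f i).left)
    ((Scheme.ofArrows_mem_precoverage_iff _).2 ⟨hs, fun i => ?_⟩) ?_
  · haveI := he i
    exact ⟨inferInstance, inferInstance⟩
  · rintro W _ ⟨i⟩
    exact ⟨V i, Over.homMk (𝟙 _) (by simp), f i, Presieve.ofArrows.mk i, Over.OverMorphism.ext (by simp)⟩

end

variable {R : Type u} [CommRing R]

theorem appTop_pt_injective {C D : Type u} [CommRing C] [CommRing D] [Algebra R C] [Algebra R D] (f : C →ₐ[R] D)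
    (hf : Function.Injective f) : Function.Injective (pt f).left.appTop := by
  rw [CoactBr.pt_left]
  have h := Scheme.ΓSpecIso_naturality (CommRingCat.ofHom f.toRingHom)
  intro a b hab
  refine (Scheme.ΓSpecIso _).commRingCatIsoToRingEquiv.injective (hf ?_)
  have ha := congrArg (fun q => q.hom a) h
  have hb := congrArg (fun q => q.hom b) h
  simp only [CommRingCat.hom_comp, RingHom.comp_apply] at ha hb
  exact ha.symm.trans ((congrArg _ hab).trans hb)

variable {A G : Type u} [CommRing A] [Algebra R A] [Group G] [Fintype G] [DecidableEq G]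
  [MulSemiringAction G A] [SMulCommClass G R A]

local notation "SR" => Spec (CommRingCat.of R)
local notation "Y" => AlgSp.yon (Spec (CommRingCat.of R))
local notation "B" => ConstAct.inv R A G

/-- The maps attached to two étale neighbourhoods of the invariants agree on their overlap. -/
theorem agree {N : AlgSp.Sp SR} (hN : AlgSp.IsAlgSpace N) (ψ : (Y).obj (sp R A) ⟶ N)
    {C₁ C₂ : Type u} [CommRing C₁] [Algebra R C₁] [CommRing C₂] [Algebra R C₂]
    (j₁ : B →ₐ[R] C₁) (j₂ : B →ₐ[R] C₂) (he₁ : Etale (pt j₁).left) (he₂ : Etale (pt j₂).left)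
    (χ₁ : (Y).obj (sp R C₁) ⟶ N) (χ₂ : (Y).obj (sp R C₂) ⟶ N)
    (h₁ : ∀ (C : Type u) [CommRing C] [Algebra R C] (a : A →ₐ[R] C) (b : C₁ →ₐ[R] C),
      a.comp (ConstAct.inv R A G).val = b.comp j₁ → (Y).map (pt a) ≫ ψ = (Y).map (pt b) ≫ χ₁)
    (h₂ : ∀ (C : Type u) [CommRing C] [Algebra R C] (a : A →ₐ[R] C) (b : C₂ →ₐ[R] C),
      a.comp (ConstAct.inv R A G).val = b.comp j₂ → (Y).map (pt a) ≫ ψ = (Y).map (pt b) ≫ χ₂)
    {W : Over SR} (g₁ : W ⟶ sp R C₁) (g₂ : W ⟶ sp R C₂) (e : g₁ ≫ pt j₁ = g₂ ≫ pt j₂) :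
    (Y).map g₁ ≫ χ₁ = (Y).map g₂ ≫ χ₂ := by
  letI : Algebra B C₁ := j₁.toRingHom.toAlgebra
  letI : Algebra B C₂ := j₂.toRingHom.toAlgebra
  haveI : IsScalarTower R B C₁ := IsScalarTower.of_algHom j₁
  haveI : IsScalarTower R B C₂ := IsScalarTower.of_algHom j₂
  rw [CoactBr.pt_left] at he₁ he₂
  haveI : Algebra.Etale B C₁ := RingHom.etale_algebraMap.1 ((HasRingHomProperty.Spec_iff (P := @Etale)).1 he₁)
  haveI : Algebra.Etale B C₂ := RingHom.etale_algebraMap.1 ((HasRingHomProperty.Spec_iff (P := @Etale)).1 he₂)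
  let T := C₁ ⊗[B] C₂
  let i₁ : C₁ →ₐ[R] T := (Algebra.TensorProduct.includeLeft : C₁ →ₐ[B] T).restrictScalars R
  let i₂ : C₂ →ₐ[R] T := (Algebra.TensorProduct.includeRight : C₂ →ₐ[B] T).restrictScalars R
  have sq : IsPullback (pt i₁).left (pt i₂).left (pt j₁).left (pt j₂).left :=
    isPullback_SpecMap_of_isPushout _ _ _ _ (CommRingCat.isPushout_tensorProduct B C₁ C₂)
  obtain ⟨l, hl₁, hl₂⟩ : ∃ l : W ⟶ sp R T, l ≫ pt i₁ = g₁ ∧ l ≫ pt i₂ = g₂ := by
    obtain ⟨l, hl₁, hl₂⟩ := sq.exists_lift g₁.left g₂.left (congrArg CommaMorphism.left e)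
    refine ⟨Over.homMk l ?_, Over.OverMorphism.ext hl₁, Over.OverMorphism.ext hl₂⟩
    rw [← Over.w (pt i₁), ← Category.assoc, hl₁, Over.w g₁]
  rw [← hl₁, ← hl₂, Functor.map_comp, Functor.map_comp, Category.assoc, Category.assoc]
  congr 1
  haveI : Algebra.Etale B T := Algebra.Etale.comp B C₁ T
  haveI : Module.Flat B T := inferInstance
  let TA := T ⊗[B] A
  let q : T →ₐ[R] TA := (Algebra.TensorProduct.includeLeft : T →ₐ[B] TA).restrictScalars R
  let inA : A →ₐ[R] TA := (Algebra.TensorProduct.includeRight : A →ₐ[B] TA).restrictScalars R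
  have hq : Function.Injective q :=
    (Algebra.TensorProduct.includeLeft_injective Subtype.val_injective :
      Function.Injective (Algebra.TensorProduct.includeLeft : T →ₐ[B] TA))
  have hqi : q.toRingHom.IsIntegral := (Algebra.IsIntegral.tensorProduct B T A).isIntegral
  haveI : IsIntegralHom (pt q).left := by
    rw [CoactBr.pt_left, IsIntegralHom.SpecMap_iff]
    exact hqi
  haveI : Surjective (pt q).left := by
    rw [CoactBr.pt_left]
    exact ⟨RingHom.IsIntegral.comap_surjective hqi hq⟩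
  haveI : IsAffine (sp R T).left := inferInstanceAs (IsAffine (Spec (CommRingCat.of T)))
  haveI : IsAffine (sp R TA).left := inferInstanceAs (IsAffine (Spec (CommRingCat.of TA)))
  refine ext_of_integral (pt q) (appTop_pt_injective q hq) hN ?_
  rw [← Category.assoc, ← Category.assoc, ← Functor.map_comp, ← Functor.map_comp, ← pt_comp, ← pt_comp]
  rw [← h₁ TA inA (q.comp i₁) ?_, ← h₂ TA inA (q.comp i₂) ?_]
  · exact AlgHom.ext fun z =>
      ((Algebra.TensorProduct.includeRight : A →ₐ[B] TA).commutes z).trans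
        ((((Algebra.TensorProduct.includeLeft : T →ₐ[B] TA).comp
          (Algebra.TensorProduct.includeRight : C₂ →ₐ[B] T)).commutes z)).symm
  · exact AlgHom.ext fun z =>
      ((Algebra.TensorProduct.includeRight : A →ₐ[B] TA).commutes z).trans
        ((((Algebra.TensorProduct.includeLeft : T →ₐ[B] TA).comp
          (Algebra.TensorProduct.includeLeft : C₁ →ₐ[B] T)).commutes z)).symm

/-- `Spec A → Spec A^G` is universal for invariant maps to algebraic spaces. -/
theorem existsUnique_desc' [IsNoetherianRing R] (N : AlgSp.Space SR)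
    (ψ : (Y).obj (ConstAct.X R A) ⟶ N.obj)
    (hψ' : ∀ g : G, (Y).map (ConstAct.act R A G g) ≫ ψ = ψ) :
    ∃! χ : (Y).obj (ConstAct.specInv R A G) ⟶ N.obj, (Y).map (ConstAct.quot R A G) ≫ χ = ψ := by
  have hN : AlgSp.IsAlgSpace N.obj := N.property
  choose c pc hpc using exists_chart hN ψ hψ'
  have h' := fun p => exists_invChart hN ψ hψ' (c p)
  let j := fun p => invMap (c p).φ (c p).equiv
  have he : ∀ p, Etale (pt (j p)).left := fun p => (h' p).1
  choose χ hχ using fun p => (h' p).2
  let O : PrimeSpectrum A → Over SR := fun p => sp R (ConstAct.inv R (c p).A' G)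
  let f : ∀ p, O p ⟶ ConstAct.specInv R A G := fun p => pt (j p)
  have hcov : Sieve.generate (Presieve.ofArrows O f) ∈ AlgSp.J SR (ConstAct.specInv R A G) :=
    ofArrows_mem_J f he fun b => by
      haveI := surjective_quot (R := R) (A := A) (G := G)
      obtain ⟨a, rfl⟩ := (ConstAct.quot R A G).left.surjective b
      refine ⟨a, PrimeSpectrum.comap (ConstAct.inv R (c a).A' G).val.toRingHom (pc a), ?_⟩
      change PrimeSpectrum.comap (j a).toRingHom _ = PrimeSpectrum.comap (ConstAct.inv R A G).val.toRingHom a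
      conv_rhs => rw [← hpc a]
      rfl
  have hcomp : ∀ {W : Over SR} {p p' : PrimeSpectrum A} (g : W ⟶ O p) (g' : W ⟶ O p'),
      g ≫ f p = g' ≫ f p' → (Y).map g ≫ χ p = (Y).map g' ≫ χ p' := fun g g' e =>
    agree hN ψ _ _ (he _) (he _) _ _ (hχ _) (hχ _) g g' e
  have hfac : ∀ ⦃V : Over SR⦄ (u : V ⟶ ConstAct.specInv R A G), Sieve.generate (Presieve.ofArrows O f) u →
      ∃ (p : PrimeSpectrum A) (g : V ⟶ O p), g ≫ f p = u := by
    rintro V u ⟨_, g, _, ⟨p⟩, rfl⟩
    exact ⟨p, g, rfl⟩
  choose P Γ hΓ using hfac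
  obtain ⟨χ₀, hχ₀⟩ := Glue.exists_glue (X := N.obj) hcov (fun V u hu => (Y).map (Γ u hu) ≫ χ (P u hu))
    fun V W g u hu => by
      rw [← Category.assoc, ← Functor.map_comp]
      exact hcomp _ _ (by rw [Category.assoc, hΓ, hΓ])
  have hmem : ∀ p, Sieve.generate (Presieve.ofArrows O f) (f p) := fun p =>
    ⟨O p, 𝟙 _, f p, Presieve.ofArrows.mk p, Category.id_comp _⟩
  have hχ₀' : ∀ p, (Y).map (f p) ≫ χ₀ = χ p := fun p => by
    rw [hχ₀ (f p) (hmem p), hcomp (Γ _ (hmem p)) (𝟙 (O p)) (by rw [hΓ, Category.id_comp]),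
      CategoryTheory.Functor.map_id, Category.id_comp]
  refine ⟨χ₀, ?_, fun χ' hχ' => ?_⟩
  · refine Glue.ext_of_cover (ofArrows_mem_J (U := ConstAct.X R A) (fun p => pt (c p).φ) (fun p => ?_)
      fun a => ⟨a, pc a, hpc a⟩) ?_
    · rw [CoactBr.pt_left]
      exact (HasRingHomProperty.Spec_iff (P := @Etale)).2 (c p).etale
    rintro V _ ⟨_, g, _, ⟨p⟩, rfl⟩
    rw [Functor.map_comp, Category.assoc, Category.assoc]
    congr 1
    rw [hχ p _ (c p).φ (ConstAct.inv R (c p).A' G).val (AlgHom.ext fun z => rfl), ← hχ₀' p, ← Category.assoc,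
      ← Category.assoc, ← Functor.map_comp, ← Functor.map_comp]
    congr 2
    rw [quot_eq_pt, ← pt_comp, ← pt_comp]
    rfl
  · haveI := isIntegralHom_quot (R := R) (A := A) (G := G)
    haveI := surjective_quot (R := R) (A := A) (G := G)
    haveI : IsAffine (ConstAct.specA R A).left := inferInstanceAs (IsAffine (Spec (CommRingCat.of A)))
    haveI : IsAffine (ConstAct.specInv R A G).left := inferInstanceAs (IsAffine (Spec (CommRingCat.of _)))
    refine ext_of_integral (ConstAct.quot R A G) quot_appTop_injective hN (hχ'.trans ?_)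
    refine (Glue.ext_of_cover (ofArrows_mem_J (U := ConstAct.X R A) (fun p => pt (c p).φ) (fun p => ?_)
      fun a => ⟨a, pc a, hpc a⟩) ?_).symm
    · rw [CoactBr.pt_left]
      exact (HasRingHomProperty.Spec_iff (P := @Etale)).2 (c p).etale
    rintro V _ ⟨_, g, _, ⟨p⟩, rfl⟩
    rw [Functor.map_comp, Category.assoc, Category.assoc]
    congr 1
    rw [hχ p _ (c p).φ (ConstAct.inv R (c p).A' G).val (AlgHom.ext fun z => rfl), ← hχ₀' p, ← Category.assoc,
      ← Category.assoc, ← Functor.map_comp, ← Functor.map_comp]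
    congr 2
    rw [quot_eq_pt, ← pt_comp, ← pt_comp]
    rfl

/-- `Spec A → Spec A^G` is universal for invariant maps to algebraic spaces. -/
theorem existsUnique_desc [IsNoetherianRing R] (N : AlgSp.Space SR)
    (ψ : (Y).obj (ConstAct.X R A) ⟶ N.obj)
    (hψ : (Y).map (ConstAct.gaction R A G).act ≫ ψ =
      (Y).map (snd (ConstAct.GR R G) (ConstAct.X R A)) ≫ ψ) :
    ∃! χ : (Y).obj (ConstAct.specInv R A G) ⟶ N.obj, (Y).map (ConstAct.quot R A G) ≫ χ = ψ :=
  existsUnique_desc' N ψ (act_comp_eq ψ hψ)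

end Groth.Agent.StFib.ConstQuot
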