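import Groth.Agent.StFib.ConstQuot.Fun
import Groth.Agent.StFib.QuotTrivCart
import Groth.Agent.StFib.QuotDesc
import Groth.Agent.StFib.YonGlue
import Groth.Prelude.Def_StMod2

/-!
# The structure sheaf of the invariants is the pushforward of that of the quotient stack
-/

set_option autoImplicit false
set_option linter.unusedVariables false
set_option linter.unusedSectionVars false
set_option linter.style.haveILetI false
set_option backward.isDefEq.respectTransparency false
set_option backward.isDefEq.respectTransparency.types false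
set_option maxHeartbeats 800000

universe u

open CategoryTheory CategoryTheory.Limits AlgebraicGeometry Opposite MonoidalCategory CartesianMonoidalCategory
open CoactBr (sp pt_comp pt_id pt_injective)

namespace Groth.Agent.StFib.ConstQuot

variable {R : Type u} [CommRing R]

/-- The affine line over the base. -/
noncomputable abbrev A1 (R : Type u) [CommRing R] : Over (Spec (CommRingCat.of R)) := sp R (Polynomial R)

/-- The function of a map to the affine line. -/
noncomputable def funOf {W : Over (Spec (CommRingCat.of R))} (σ : W ⟶ A1 R) : Γ(W.left, ⊤) :=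
  σ.left.appTop ((Scheme.ΓSpecIso (CommRingCat.of (Polynomial R))).inv Polynomial.X)

theorem funOf_comp {W W' : Over (Spec (CommRingCat.of R))} (k : W' ⟶ W) (σ : W ⟶ A1 R) :
    funOf (k ≫ σ) = k.left.appTop (funOf σ) := by
  simp [funOf]

theorem funOf_injective {W : Over (Spec (CommRingCat.of R))} {σ σ' : W ⟶ A1 R} (h : funOf σ = funOf σ') : σ = σ' := by
  refine Over.OverMorphism.ext ?_
  apply (ΓSpec.adjunction.homEquiv W.left (op (CommRingCat.of (Polynomial R)))).symm.injective
  apply Quiver.Hom.unop_inj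
  simp only [ΓSpec.adjunction_homEquiv_symm_apply, Quiver.Hom.unop_op]
  refine CommRingCat.hom_ext (Polynomial.ringHom_ext (fun r => ?_) h)
  have hσ : σ.left ≫ (A1 R).hom = σ'.left ≫ (A1 R).hom := by rw [Over.w σ, Over.w σ']
  have h' := congrArg (fun q => q.appTop ((Scheme.ΓSpecIso (CommRingCat.of R)).inv r)) hσ
  have hn := congrArg (fun q => q.hom r)
    (Scheme.ΓSpecIso_inv_naturality (CommRingCat.ofHom (algebraMap R (Polynomial R))))
  simp only [CommRingCat.hom_comp, RingHom.comp_apply, CommRingCat.hom_ofHom] at hn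
  simp only [Scheme.Hom.comp_appTop, CommRingCat.comp_apply] at h'
  change σ.left.appTop ((Scheme.ΓSpecIso _).inv (algebraMap R (Polynomial R) r)) =
    σ'.left.appTop ((Scheme.ΓSpecIso _).inv (algebraMap R (Polynomial R) r))
  erw [hn]
  exact h'

theorem funOf_surjective {W : Over (Spec (CommRingCat.of R))} (t : Γ(W.left, ⊤)) : ∃ σ : W ⟶ A1 R, funOf σ = t := by
  let e : CommRingCat.of (Polynomial R) ⟶ Γ(W.left, ⊤) := CommRingCat.ofHom
    (Polynomial.eval₂RingHom (W.hom.appTop.hom.comp (Scheme.ΓSpecIso (CommRingCat.of R)).inv.hom) t)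
  have he : CommRingCat.ofHom (algebraMap R (Polynomial R)) ≫ e =
      (Scheme.ΓSpecIso (CommRingCat.of R)).inv ≫ W.hom.appTop := by
    refine CommRingCat.hom_ext (RingHom.ext fun r => ?_)
    simp [e]
  refine ⟨Over.homMk (W.left.toSpecΓ ≫ Spec.map e) ?_, ?_⟩
  · change (W.left.toSpecΓ ≫ Spec.map e) ≫ Spec.map (CommRingCat.ofHom (algebraMap R (Polynomial R))) = W.hom
    rw [Category.assoc, ← Spec.map_comp, he, Spec.map_comp, ← Scheme.toSpecΓ_naturality_assoc]
    simp
  · change (W.left.toSpecΓ ≫ Spec.map e).appTop ((Scheme.ΓSpecIso _).inv Polynomial.X) = t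
    have h1 : (Scheme.ΓSpecIso (CommRingCat.of (Polynomial R))).inv ≫ (W.left.toSpecΓ ≫ Spec.map e).appTop = e := by
      rw [Scheme.Hom.comp_appTop, ← Category.assoc, ← Scheme.ΓSpecIso_inv_naturality, Category.assoc,
        Scheme.toSpecΓ_appTop, Iso.inv_hom_id, Category.comp_id]
    refine (congrArg (fun q => q.hom Polynomial.X) h1).trans ?_
    simp [e]

/-- Functions are determined on an fppf covering. -/
theorem fun_ext_of_cover {W : Over (Spec (CommRingCat.of R))} {Rs : Sieve W}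
    (hR : Rs ∈ AlgSp.J (Spec (CommRingCat.of R)) W) (t t' : Γ(W.left, ⊤))
    (h : ∀ ⦃V : Over (Spec (CommRingCat.of R))⦄ (f : V ⟶ W), Rs f → f.left.appTop t = f.left.appTop t') : t = t' := by
  obtain ⟨σ, rfl⟩ := funOf_surjective t
  obtain ⟨σ', rfl⟩ := funOf_surjective t'
  refine congrArg funOf ((AlgSp.yon _).map_injective (Glue.ext_of_cover hR fun V f hf => ?_))
  rw [← Functor.map_comp, ← Functor.map_comp]
  exact congrArg _ (funOf_injective (by rw [funOf_comp, funOf_comp, h f hf]))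

variable {A G : Type u} [CommRing A] [Algebra R A] [Group G] [Fintype G] [DecidableEq G]
  [MulSemiringAction G A] [SMulCommClass G R A]

theorem unitIsIso
    (π : ConstAct.quotSt R A G Scheme.fppfPrecoverage ⥤ᵇ AlgSt.ofSch (ConstAct.specInv R A G))
    (hπ : BasedFunctor.comp
        (AlgSt.quotMap Scheme.fppfPrecoverage (ConstAct.GR R G) (ConstAct.gaction R A G)) π =
      AlgSt.ofSpMap ((AlgSp.yon (Spec (CommRingCat.of R))).map (ConstAct.quot R A G))) :
    StMod.UnitIsIso π := by
  intro E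
  obtain ⟨h, hh⟩ := (AlgSp.yon (Spec (CommRingCat.of R))).map_surjective E.obj.hom
  have het : Etale h.left := by
    have := E.property
    rw [AlgSp.EtOver] at *
    exact (AlgSp.repWith_yon_map_iff _ _).1 (hh ▸ this)
  have hflat : Flat h.left := inferInstance
  have hη : (StMod.etaOf E).sec = ⟨h⟩ := by
    change (AlgSp.J (Spec (CommRingCat.of R))).uliftYonedaEquiv E.obj.hom = _
    rw [← hh]
    rfl
  let qq := AlgSt.quotMap Scheme.fppfPrecoverage (ConstAct.GR R G) (ConstAct.gaction R A G)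
  have hobj : ∀ (a : (AlgSt.ofSch (ConstAct.X R A)).obj), π.obj (qq.obj a) =
      (AlgSt.ofSpMap ((AlgSp.yon (Spec (CommRingCat.of R))).map (ConstAct.quot R A G))).obj a :=
    fun a => congrArg (fun F => F.obj a) hπ
  -- morphisms to the test object are determined by their base
  have hαext : ∀ (ξ : (ConstAct.quotSt R A G Scheme.fppfPrecoverage).obj) (α α' : π.obj ξ ⟶ StMod.etaOf E),
      StMod.baseOver π ξ α = StMod.baseOver π ξ α' → α = α' := fun ξ α α' e => by
    simp only [StMod.baseOver] at e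
    exact Stk.EltObj.hom_ext ((cancel_epi (eqToHom _)).1 e)
  have hmk : ∀ (a : (AlgSt.ofSch (ConstAct.X R A)).obj) (b : a.base ⟶ E.obj.left),
      b ≫ h = a.sec.down ≫ ConstAct.quot R A G →
      ∃ α : π.obj (qq.obj a) ⟶ StMod.etaOf E, StMod.baseOver π (qq.obj a) α = b := fun a b hb => by
    let β : (AlgSt.ofSpMap ((AlgSp.yon (Spec (CommRingCat.of R))).map (ConstAct.quot R A G))).obj a ⟶ StMod.etaOf E :=
      ⟨b, by rw [hη]; exact congrArg ULift.up hb⟩
    refine ⟨eqToHom (hobj a) ≫ β, ?_⟩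
    simp only [StMod.baseOver, Functor.map_comp, eqToHom_map, eqToHom_trans_assoc]
    exact Category.id_comp b
  have hcond : ∀ (a : (AlgSt.ofSch (ConstAct.X R A)).obj) (α : π.obj (qq.obj a) ⟶ StMod.etaOf E),
      StMod.baseOver π (qq.obj a) α ≫ h = a.sec.down ≫ ConstAct.quot R A G := fun a α => by
    have e := (eqToHom (hobj a).symm ≫ α).map_sec
    rw [hη] at e
    have hb : StMod.baseOver π (qq.obj a) α = (eqToHom (hobj a).symm ≫ α).hom := by
      change _ = (Stk.EltObj.forget _).map (eqToHom (hobj a).symm ≫ α)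
      simp only [StMod.baseOver, Functor.map_comp, eqToHom_map]
    rw [hb]
    exact congrArg ULift.down e
  have sq := IsPullback.of_hasPullback h (ConstAct.quot R A G)
  let p₁ := pullback.fst h (ConstAct.quot R A G)
  let p₂ := pullback.snd h (ConstAct.quot R A G)
  let ξ₀ := qq.obj (QuotTriv.pt p₂)
  obtain ⟨α₀, hα₀⟩ := hmk (QuotTriv.pt p₂) p₁ sq.w
  refine ⟨fun r r' hr => ?_, fun s => ?_⟩
  · obtain ⟨σ, rfl⟩ := funOf_surjective r
    obtain ⟨σ', rfl⟩ := funOf_surjective r'
    refine congrArg funOf (desc_affine_uniq hflat sq σ σ' (funOf_injective ?_))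
    rw [funOf_comp, funOf_comp]
    have := congrArg (fun v => v.1 ξ₀ α₀) hr
    simp only [StMod.unitSect_val] at this
    have h9 : ∀ t, (StMod.baseOver π ξ₀ α₀).left.appTop t = p₁.left.appTop t := fun t =>
      congrArg (fun q => q.left.appTop t) hα₀
    exact (h9 _).symm.trans (this.trans (h9 _))
  · have hnat : ∀ {ξ' ξ : (ConstAct.quotSt R A G Scheme.fppfPrecoverage).obj} (φ : ξ' ⟶ ξ)
        (α : π.obj ξ ⟶ StMod.etaOf E) (α' : π.obj ξ' ⟶ StMod.etaOf E),
        StMod.baseOver π ξ' α' = (ConstAct.quotSt R A G Scheme.fppfPrecoverage).p.map φ ≫ StMod.baseOver π ξ α →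
        ((ConstAct.quotSt R A G Scheme.fppfPrecoverage).p.map φ).left.appTop (s.1 ξ α) = s.1 ξ' α' := by
      intro ξ' ξ φ α α' e
      have h2 := s.2 φ α
      rw [StMod.O_mapTop] at h2
      rw [hαext ξ' α' (π.map φ ≫ α) (e.trans (StMod.map_comp_baseOver π φ α))]
      exact h2
    obtain ⟨τ, hτ⟩ := funOf_surjective (W := pullback h (ConstAct.quot R A G)) (s.1 ξ₀ α₀)
    obtain ⟨σ, hσ⟩ := desc_affine hflat sq τ fun g γ hγ₁ hγ₂ => funOf_injective (by
      rw [funOf_comp, hτ]
      obtain ⟨α₁, hα₁⟩ := hmk (QuotTriv.pt (γ ≫ p₂)) p₁ (by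
        change p₁ ≫ h = (γ ≫ p₂) ≫ ConstAct.quot R A G
        rw [Category.assoc, ← sq.w, reassoc_of% hγ₁])
      let m : (QuotTriv.pt (γ ≫ p₂) : (AlgSt.ofSch (ConstAct.X R A)).obj) ⟶ QuotTriv.pt p₂ := ⟨γ, rfl⟩
      have e1 : γ.left.appTop (s.1 ξ₀ α₀) = s.1 _ α₁ := hnat (qq.map m) α₀ α₁ (by
        rw [hα₁, hα₀]
        exact hγ₁.symm)
      let i := QuotTriv.rmulIso (ConstAct.gaction R A G) Scheme.fppfPrecoverage (x := γ ≫ p₂) (y := p₂)
        (p₂ ≫ CoactBr.pt (ConstAct.constPt R G (K := A) g⁻¹)) (by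
          have h1 : lift (CoactBr.pt (ConstAct.constPt R G (K := A) g⁻¹)) (CoactBr.pt (AlgHom.id R A)) ≫
              (ConstAct.gaction R A G).act = ConstAct.act R A G g := by
            rw [ConstAct.gaction_constPt, inv_inv, pt_id, Category.id_comp]
          rw [hγ₂, ← h1, ← Category.assoc, comp_lift, pt_id]
          exact congrArg (fun z => lift (p₂ ≫ CoactBr.pt (ConstAct.constPt R G (K := A) g⁻¹)) z ≫ (ConstAct.gaction R A G).act)
            (Category.comp_id p₂).symm)
      have e2 := hnat i.hom α₀ α₁ (by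
        rw [hα₁, hα₀]
        exact (Category.id_comp p₁).symm)
      rw [e1, ← e2]
      change (CommaMorphism.left (𝟙 (pullback h (ConstAct.quot R A G)))).appTop (s.1 ξ₀ α₀) = _
      simp)
    refine ⟨funOf σ, Subtype.ext (funext fun ξ => funext fun α => ?_)⟩
    obtain ⟨Rs, hRs, hsec⟩ := QuotTriv.exists_sieve_secs ξ
    refine fun_ext_of_cover hRs _ _ fun V g hg => ?_
    obtain ⟨c, hc⟩ := hsec g hg
    let φ := QuotTriv.homTriv (K := Scheme.fppfPrecoverage) (QuotTriv.pt (c ≫ ξ.φ)) ξ g c hc rfl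
    have hb := hcond (QuotTriv.pt (c ≫ ξ.φ)) (π.map φ ≫ α)
    have hbase : StMod.baseOver π (qq.obj (QuotTriv.pt (c ≫ ξ.φ))) (π.map φ ≫ α) = g ≫ StMod.baseOver π ξ α :=
      (StMod.map_comp_baseOver π φ α).symm
    rw [hbase] at hb
    obtain ⟨l, hl₁, hl₂⟩ := sq.exists_lift (g ≫ StMod.baseOver π ξ α) (c ≫ ξ.φ) hb
    let m : (QuotTriv.pt (c ≫ ξ.φ) : (AlgSt.ofSch (ConstAct.X R A)).obj) ⟶ QuotTriv.pt p₂ := ⟨l, congrArg ULift.up hl₂⟩
    have e1 : g.left.appTop (s.1 ξ α) = s.1 _ (π.map φ ≫ α) := hnat φ α _ hbase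
    have e2 : l.left.appTop (s.1 ξ₀ α₀) = s.1 _ (π.map φ ≫ α) := hnat (qq.map m) α₀ _ (by
      rw [hbase, hα₀]
      exact hl₁.symm)
    rw [e1, ← e2, StMod.unitSect_val, ← hτ, ← hσ, ← funOf_comp, ← funOf_comp, ← funOf_comp]
    exact congrArg funOf ((Category.assoc _ _ _).symm.trans
      ((congrArg (· ≫ σ) hl₁.symm).trans (Category.assoc _ _ _)))

end Groth.Agent.StFib.ConstQuot
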