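import Groth.Agent.StFib.QuotDesc
import Groth.Agent.StFib.RepPoints
import Groth.Agent.StFib.UnivInj
import Groth.Agent.StFib.PointsTop
import Groth.Agent.StFib.Props2
import Groth.Agent.StFib.DiagRep
import Groth.Agent.StFib.AtlasProps
import Groth.Agent.AlgSp.PointsMor
import Groth.Prelude.Def_StCoarse

/-!
# Universal homeomorphisms to schemes from geometric quotients
-/

set_option autoImplicit false
set_option linter.unusedVariables false
set_option linter.style.haveILetI false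
set_option backward.isDefEq.respectTransparency false
set_option backward.isDefEq.respectTransparency.types false

universe u

open CategoryTheory CategoryTheory.Limits AlgebraicGeometry Opposite FibCat

namespace Groth.Agent.StFib.ConstQuot

open Groth.Agent.StFib
open Groth.Agent.StFib.QuotTriv (eltObj_ext)

variable {S : Scheme.{u}} {𝒳 : AlgSt.Cat S} {Z : Over S}

local notation "K" => Scheme.fppfPrecoverage

theorem fibSec_eq_of_vert {M : AlgSp.Sp S} {T : Over S} (π : 𝒳 ⥤ᵇ AlgSt.ofSp M) (x y : 𝒳.p.Fiber T)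
    (β : π.obj x.1 ⟶ π.obj y.1) (hβ : Vert β) : AlgSt.fibSec π x = AlgSt.fibSec π y := by
  obtain ⟨h, hv⟩ := hβ
  have he : π.obj x.1 = π.obj y.1 :=
    eltObj_ext h ((congrArg (fun k => M.obj.map k.op (π.obj y.1).sec) hv.symm).trans β.map_sec)
  have aux : ∀ {a b : (AlgSt.ofSp M).obj} (e : a = b) (ea : a.base = T) (eb : b.base = T),
      M.obj.map (eqToHom ea.symm).op a.sec = M.obj.map (eqToHom eb.symm).op b.sec := by
    intro a b e ea eb; subst e; rfl
  exact aux he ((π.w_obj x.1).trans x.2) ((π.w_obj y.1).trans y.2)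

/-- A map from an algebraic stack to a scheme which is bijective on geometric points and is dominated by a
universally closed surjection of schemes is a universal homeomorphism. -/
theorem isUnivHomeo_of_geomPtBij (h𝒳 : AlgSt.IsAlgStack K 𝒳) (π : 𝒳 ⥤ᵇ AlgSt.ofSch Z)
    (hbij : AlgSt.GeomPtBij π) {X : Over S} (q : AlgSt.ofSch X ⥤ᵇ 𝒳) (f : X ⟶ Z)
    [UniversallyClosed f.left] [Surjective f.left]
    (hq : BasedFunctor.comp q π = AlgSt.ofSpMap ((AlgSp.yon S).map f)) : AlgSt.IsUnivHomeo K π := by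
  have hX : AlgSp.IsAlgSpace ((AlgSp.yon S).obj X) := AlgSp.IsAlgSpace.yon_obj X
  have hZ : AlgSp.IsAlgSpace ((AlgSp.yon S).obj Z) := AlgSp.IsAlgSpace.yon_obj Z
  have hY : AlgSt.IsAlgStack K (AlgSt.ofSch Z) := isAlgStack_ofSp hZ
  have hinj : AlgSt.IsUnivInjective K π := by
    refine (isUnivInjective_iff_diag h𝒳 hY π).2 ((isSurjective_diag_iff_algClosed h𝒳 hY π).2 ?_)
    intro k _ _ s a₁ a₂ e₁ e₂ β hβ
    have hv : Vert β := vert_of_isHomLift hβ
    obtain ⟨i⟩ := (hbij k s).2 ⟨a₁, e₁⟩ ⟨a₂, e₂⟩ (fibSec_eq_of_vert π ⟨a₁, e₁⟩ ⟨a₂, e₂⟩ β hv)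
    refine ⟨i.hom.1, i.hom.2, Stk.EltObj.hom_ext ?_⟩
    obtain ⟨h, hb⟩ := hv
    obtain ⟨h', hb'⟩ := ((vert_of_isHomLift i.hom.2).map π : Vert (π.map i.hom.1))
    exact hb'.trans hb.symm
  have hrc : AlgSt.RepByAlgSpWith AlgSp.IsUnivClosedMor (AlgSt.ofSpMap ((AlgSp.yon S).map f)) :=
    repByAlgSpWith_ofSpMap good_univClosed.bc hX hZ _
      (Groth.Agent.AlgSp.isUnivClosedMor_of_repWith ((AlgSp.repWith_yon_map_iff _ _).2 ‹_›))
  have hrs : AlgSt.RepByAlgSpWith AlgSp.IsSurjectiveMor (AlgSt.ofSpMap ((AlgSp.yon S).map f)) :=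
    repByAlgSpWith_ofSpMap good_surjective.bc hX hZ _
      (isSurjectiveMor_of_repWith ((AlgSp.repWith_yon_map_iff _ _).2 ‹_›))
  have hc : AlgSt.IsUnivClosed K (AlgSt.ofSpMap ((AlgSp.yon S).map f)) :=
    points_of_repByAlgSpWith_univ (fun φ => IsClosedMap φ) homeoInv_isClosedMap descendsPts_isClosedMap
      (isAlgStack_ofSp hX) hY hrc
  have hs : Function.Surjective (AlgSt.Points.map (BasedFunctor.comp q π)) := by
    rw [hq]
    exact points_map_space_surjective (A := ⟨_, hX⟩) hY.isStack.1 hrs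
  have hπs : AlgSt.IsSurjective π := fun z => by
    obtain ⟨x, hx⟩ := hs z
    exact ⟨AlgSt.Points.map q x, by rw [← hx, points_map_comp]; rfl⟩
  rw [← hq] at hc
  intro 𝒵 h𝒵 g
  have hP : AlgSt.IsAlgStack K (fp g π) := isAlgStack_fp hY.isStack hY.diag h𝒵 h𝒳 g π
  refine isHomeomorph_iff_continuous_isClosedMap_bijective.2 ⟨continuous_points_map h𝒵 _, ?_, hinj 𝒵 h𝒵 g,
    isSurjective_fpFst h𝒳.isStack.1 h𝒵.isStack.1 hY.isStack.1 π g hπs⟩
  let Φ : fp g (BasedFunctor.comp q π) ⥤ᵇ fp g π :=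
    fpLift (fpFst g (BasedFunctor.comp q π)) (BasedFunctor.comp (fpSnd g (BasedFunctor.comp q π)) q)
      (fpIso g (BasedFunctor.comp q π))
  have hΦ : ∀ w, AlgSt.Points.map (fpFst g π) (AlgSt.Points.map Φ w) =
      AlgSt.Points.map (fpFst g (BasedFunctor.comp q π)) w := fun w => by
    rw [← Function.comp_apply (f := AlgSt.Points.map (fpFst g π)), ← points_map_comp]
    rfl
  intro C hC
  have he : AlgSt.Points.map (fpFst g π) '' C =
      AlgSt.Points.map (fpFst g (BasedFunctor.comp q π)) '' (AlgSt.Points.map Φ ⁻¹' C) := by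
    ext z
    constructor
    · rintro ⟨P, hP', rfl⟩
      obtain ⟨x, hx⟩ := hs (AlgSt.Points.map g (AlgSt.Points.map (fpFst g π) P))
      obtain ⟨w, hw, -⟩ := exists_points_fp_of_map_eq (isAlgStack_ofSp hX).isStack.1 h𝒵.isStack.1 hY.isStack.1
        (BasedFunctor.comp q π) g _ x hx.symm
      refine ⟨w, ?_, hw⟩
      change AlgSt.Points.map Φ w ∈ C
      rwa [hinj 𝒵 h𝒵 g ((hΦ w).trans hw)]
    · rintro ⟨w, hw, rfl⟩
      exact ⟨_, hw, hΦ w⟩
  rw [he]
  exact hc 𝒵 h𝒵 g _ (hC.preimage (continuous_points_map hP Φ))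

end Groth.Agent.StFib.ConstQuot
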