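import Groth.Agent.StFib.ConstQuot.FlatQuot
import Groth.Agent.StFib.QuotCoarse
import Groth.Agent.StFib.Fp

/-!
# Flat affine base change of the coarse moduli space of a constant group quotient
-/

set_option autoImplicit false
set_option linter.unusedVariables false
set_option linter.unusedSectionVars false
set_option linter.style.haveILetI false
set_option backward.isDefEq.respectTransparency false
set_option backward.isDefEq.respectTransparency.types false
set_option maxHeartbeats 800000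

universe u

open CategoryTheory CategoryTheory.Limits AlgebraicGeometry Opposite MonoidalCategory CartesianMonoidalCategory
  FibCat

namespace Groth.Agent.StFib.ConstQuot

open Groth.Agent.AlgSp (yEquiv yEquiv_map yEquiv_comp)

section General

variable {S : Scheme.{u}} {𝒳 : AlgSt.Cat S} {N : AlgSp.Sp S}

/-- The point of the target attached to an object. -/
noncomputable def secM (φ : 𝒳 ⥤ᵇ AlgSt.ofSp N) (z : 𝒳.obj) : (AlgSp.yon S).obj (𝒳.p.obj z) ⟶ N :=
  yEquiv.symm (N.obj.map (eqToHom (φ.w_obj z).symm).op (φ.obj z).sec)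

theorem yEquiv_secM (φ : 𝒳 ⥤ᵇ AlgSt.ofSp N) (z : 𝒳.obj) :
    yEquiv (secM φ z) = N.obj.map (eqToHom (φ.w_obj z).symm).op (φ.obj z).sec :=
  Equiv.apply_symm_apply _ _

theorem secM_map (φ : 𝒳 ⥤ᵇ AlgSt.ofSp N) {z z' : 𝒳.obj} (m : z ⟶ z') :
    (AlgSp.yon S).map (𝒳.p.map m) ≫ secM φ z' = secM φ z := by
  apply yEquiv.injective
  rw [yEquiv_map, yEquiv_secM, yEquiv_secM, ← (φ.map m).map_sec]
  erw [← Functor.map_comp_apply, ← Functor.map_comp_apply]
  rw [← op_comp, ← op_comp]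
  congr 3
  have e1 : (φ.map m).hom = eqToHom (φ.w_obj z) ≫ 𝒳.p.map m ≫ eqToHom (φ.w_obj z').symm := Functor.congr_hom φ.w m
  rw [e1]
  simp

theorem eq_of_secM {φ φ' : 𝒳 ⥤ᵇ AlgSt.ofSp N} (h : ∀ z, secM φ z = secM φ' z) : φ = φ' :=
  QuotTriv.basedFunctor_ext φ φ' fun z => QuotTriv.eltObj_ext ((φ.w_obj z).trans (φ'.w_obj z).symm) (by
    have e := congrArg yEquiv (h z)
    rw [yEquiv_secM, yEquiv_secM] at e
    have e' := congrArg (N.obj.map (eqToHom (φ.w_obj z)).op) e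
    rw [← Functor.map_comp_apply, ← Functor.map_comp_apply, ← op_comp, ← op_comp, eqToHom_trans, eqToHom_trans] at e'
    exact e'.symm.trans (psh_map_id _ _))

variable {𝒴 : AlgSt.Cat S} {M : AlgSp.Sp S} {F : 𝒳 ⥤ᵇ AlgSt.ofSp M} {G : 𝒴 ⥤ᵇ AlgSt.ofSp M}

theorem fibSec_snd (x : (fp F G).obj) {T : Over S} (eT : 𝒳.p.obj x.obj.fst = T) :
    AlgSt.fibSec G (Functor.Fiber.mk (p := 𝒴.p) (a := x.obj.snd) ((fp_base_eq x).symm.trans eT)) =
      AlgSt.fibSec F (Functor.Fiber.mk (p := 𝒳.p) (a := x.obj.fst) eT) := by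
  obtain ⟨hb, hv⟩ := vert_fp_iso x
  have he : F.obj x.obj.fst = G.obj x.obj.snd :=
    QuotTriv.eltObj_ext hb ((congrArg (fun k => M.obj.map k.op (G.obj x.obj.snd).sec) hv.symm).trans
      x.obj.iso.hom.map_sec)
  have aux : ∀ {a b : (AlgSt.ofSp M).obj} (e : a = b) (ea : a.base = T) (eb : b.base = T),
      M.obj.map (eqToHom eb.symm).op b.sec = M.obj.map (eqToHom ea.symm).op a.sec := by
    intro a b e ea eb; subst e; rfl
  exact aux he ((F.w_obj _).trans eT) ((G.w_obj _).trans ((fp_base_eq x).symm.trans eT))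

theorem fibSec_ofSpMap {M' : AlgSp.Sp S} (g : M' ⟶ M) (a : (AlgSt.ofSp M').obj) {T : Over S} (e : a.base = T) :
    AlgSt.fibSec (AlgSt.ofSpMap g) (Functor.Fiber.mk (p := (AlgSt.ofSp M').p) (a := a) e) =
      g.hom.app _ (M'.obj.map (eqToHom e.symm).op a.sec) :=
  (NatTrans.naturality_apply g.hom _ _).symm

/-- Morphisms of a fibre product over a category fibred in sets. -/
noncomputable def fpHomSet {x y : (fp F G).obj} (a : x.obj.fst ⟶ y.obj.fst) (b : x.obj.snd ⟶ y.obj.snd)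
    (hab : 𝒴.p.map b = eqToHom (fp_base_eq x).symm ≫ 𝒳.p.map a ≫ eqToHom (fp_base_eq y)) : x ⟶ y :=
  fpHom a b (Stk.EltObj.hom_ext (by
    have e1 : (AlgSt.ofSp M).p.map (F.map a) = eqToHom (F.w_obj _) ≫ 𝒳.p.map a ≫ eqToHom (F.w_obj _).symm :=
      Functor.congr_hom F.w a
    have e2 : (AlgSt.ofSp M).p.map (G.map b) = eqToHom (G.w_obj _) ≫ 𝒴.p.map b ≫ eqToHom (G.w_obj _).symm :=
      Functor.congr_hom G.w b
    change (AlgSt.ofSp M).p.map (F.map a ≫ y.obj.iso.hom) = (AlgSt.ofSp M).p.map (x.obj.iso.hom ≫ G.map b)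
    rw [Functor.map_comp, Functor.map_comp, e1, e2, (vert_fp_iso x).2, (vert_fp_iso y).2, hab]
    simp))

end General

variable {R : Type u} [CommRing R] {A G : Type u} [CommRing A] [Algebra R A] [Group G] [Fintype G] [DecidableEq G]
  [MulSemiringAction G A] [SMulCommClass G R A]

theorem isCoarseModuli_fpFst [IsNoetherianRing R] [IsAffineHom (ConstAct.GR R G).hom]
    (π : ConstAct.quotSt R A G Scheme.fppfPrecoverage ⥤ᵇ AlgSt.ofSch (ConstAct.specInv R A G))
    (hπ : BasedFunctor.comp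
        (AlgSt.quotMap Scheme.fppfPrecoverage (ConstAct.GR R G) (ConstAct.gaction R A G)) π =
      AlgSt.ofSpMap ((AlgSp.yon (Spec (CommRingCat.of R))).map (ConstAct.quot R A G)))
    (hbij : AlgSt.GeomPtBij π) (E : Over (Spec (CommRingCat.of R))) [IsAffine E.left]
    (h : E ⟶ ConstAct.specInv R A G) [Flat h.left] :
    AlgSt.IsCoarseModuli (fpFst (AlgSt.ofSpMap ((AlgSp.yon (Spec (CommRingCat.of R))).map h)) π) := by
  let qq := AlgSt.quotMap Scheme.fppfPrecoverage (ConstAct.GR R G) (ConstAct.gaction R A G)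
  let H := AlgSt.ofSpMap ((AlgSp.yon (Spec (CommRingCat.of R))).map h)
  have hobj : ∀ (a : (AlgSt.ofSch (ConstAct.X R A)).obj), π.obj (qq.obj a) =
      (AlgSt.ofSpMap ((AlgSp.yon (Spec (CommRingCat.of R))).map (ConstAct.quot R A G))).obj a :=
    fun a => congrArg (fun F => F.obj a) hπ
  have hmk : ∀ {T : Over (Spec (CommRingCat.of R))} (a : T ⟶ E) (x : T ⟶ ConstAct.X R A),
      a ≫ h = x ≫ ConstAct.quot R A G →
      ∃ i : H.obj (QuotTriv.pt a) ≅ π.obj (qq.obj (QuotTriv.pt x)), Vert i.hom := fun {T} a x e => by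
    have he : H.obj (QuotTriv.pt a) = π.obj (qq.obj (QuotTriv.pt x)) :=
      (congrArg (fun q => (⟨T, ⟨q⟩⟩ : (AlgSt.ofSch (ConstAct.specInv R A G)).obj)) e).trans
        (hobj (QuotTriv.pt x)).symm
    exact ⟨eqToIso he, congrArg (AlgSt.ofSch (ConstAct.specInv R A G)).p.obj he, eqToHom_map (AlgSt.ofSch (ConstAct.specInv R A G)).p he⟩
  choose mkIso hmkIso using @hmk
  let mkObj : ∀ {T : Over (Spec (CommRingCat.of R))} (a : T ⟶ E) (x : T ⟶ ConstAct.X R A),
      a ≫ h = x ≫ ConstAct.quot R A G → (fp H π).obj := fun {T} a x e =>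
    fpMk (QuotTriv.pt a) (qq.obj (QuotTriv.pt x)) (mkIso a x e) (hmkIso a x e)
  refine ⟨⟨AlgSp.IsAlgSpace.yon_obj _, fun N hN φ => ?_⟩, fun Ω _ _ t => ⟨fun m => ?_, fun z z' hzz => ?_⟩⟩
  · -- the categorical property
    have sq := IsPullback.of_hasPullback h (ConstAct.quot R A G)
    let p₁ := pullback.fst h (ConstAct.quot R A G)
    let p₂ := pullback.snd h (ConstAct.quot R A G)
    let z₀ := mkObj p₁ p₂ sq.w
    let ψ : (AlgSp.yon _).obj (pullback h (ConstAct.quot R A G)) ⟶ N := secM φ z₀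
    have hinv : ∀ (g : G) (γ : pullback h (ConstAct.quot R A G) ⟶ pullback h (ConstAct.quot R A G)),
        γ ≫ p₁ = p₁ → γ ≫ p₂ = p₂ ≫ ConstAct.act R A G g → (AlgSp.yon _).map γ ≫ ψ = ψ := by
      intro g γ hγ₁ hγ₂
      have e : p₁ ≫ h = (γ ≫ p₂) ≫ ConstAct.quot R A G := by
        rw [Category.assoc, ← sq.w, reassoc_of% hγ₁]
      let z₁ := mkObj p₁ (γ ≫ p₂) e
      let m₁ : z₁ ⟶ z₀ := fpHomSet (F := H) (G := π) (x := z₁) (y := z₀)
        (⟨γ, congrArg ULift.up hγ₁⟩ : (QuotTriv.pt p₁ : (AlgSt.ofSch E).obj) ⟶ QuotTriv.pt p₁)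
        (qq.map (⟨γ, rfl⟩ : (QuotTriv.pt (γ ≫ p₂) : (AlgSt.ofSch (ConstAct.X R A)).obj) ⟶ QuotTriv.pt p₂))
        ((Category.id_comp _).trans (Category.comp_id γ)).symm
      let i := QuotTriv.rmulIso (ConstAct.gaction R A G) Scheme.fppfPrecoverage (x := γ ≫ p₂) (y := p₂)
        (p₂ ≫ CoactBr.pt (ConstAct.constPt R G (K := A) g⁻¹)) (by
          have h1 : lift (CoactBr.pt (ConstAct.constPt R G (K := A) g⁻¹)) (CoactBr.pt (AlgHom.id R A)) ≫
              (ConstAct.gaction R A G).act = ConstAct.act R A G g := by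
            rw [ConstAct.gaction_constPt, inv_inv, CoactBr.pt_id, Category.id_comp]
          rw [hγ₂, ← h1, ← Category.assoc, comp_lift, CoactBr.pt_id]
          exact congrArg (fun z => lift (p₂ ≫ CoactBr.pt (ConstAct.constPt R G (K := A) g⁻¹)) z ≫
            (ConstAct.gaction R A G).act) (Category.comp_id p₂).symm)
      let m₂ : z₁ ⟶ z₀ := fpHomSet (F := H) (G := π) (x := z₁) (y := z₀)
        (𝟙 (QuotTriv.pt p₁ : (AlgSt.ofSch E).obj)) i.hom
        ((Category.id_comp _).trans (Category.comp_id (𝟙 (pullback h (ConstAct.quot R A G))))).symm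
      have e1 : (AlgSp.yon _).map γ ≫ ψ = secM φ z₁ := secM_map φ m₁
      have e2 : (AlgSp.yon _).map (𝟙 _) ≫ ψ = secM φ z₁ := secM_map φ m₂
      rw [e1, ← e2, CategoryTheory.Functor.map_id]
      exact Category.id_comp ψ
    obtain ⟨χ, hχ, huniq⟩ := existsUnique_desc_flat ‹Flat h.left› sq ⟨N, hN⟩ ψ hinv
    have hsec : ∀ (χ' : (AlgSp.yon _).obj E ⟶ N) (z : (fp H π).obj),
        secM (BasedFunctor.comp (fpFst H π) (AlgSt.ofSpMap χ')) z =
          (AlgSp.yon _).map z.obj.fst.sec.down ≫ χ' := fun χ' z => by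
      apply yEquiv.injective
      rw [yEquiv_secM, yEquiv_comp]
      exact psh_map_id _ _
    refine ⟨χ, ⟨eqToIso (eq_of_secM fun z => ?_)⟩, fun χ' hχ' => huniq χ' ?_⟩
    · rw [hsec]
      obtain ⟨Rs, hRs, hc⟩ := QuotTriv.exists_sieve_secs z.obj.snd
      refine Glue.ext_of_cover ((AlgSp.J _).pullback_stable (eqToHom (fp_base_eq z)) hRs) fun V f hf => ?_
      obtain ⟨c, hcπ⟩ := hc _ hf
      let x := c ≫ z.obj.snd.φ
      let hT := QuotTriv.homTriv (K := Scheme.fppfPrecoverage) (QuotTriv.pt x) z.obj.snd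
        (f ≫ eqToHom (fp_base_eq z)) c hcπ rfl
      let β := eqToHom (hobj (QuotTriv.pt x)).symm ≫ π.map hT ≫ z.obj.iso.inv
      have hβ : β.hom = f := by
        have e2 : (AlgSt.ofSch _).p.map (π.map hT) = eqToHom (π.w_obj _) ≫ (f ≫ eqToHom (fp_base_eq z)) ≫
            eqToHom (π.w_obj _).symm := Functor.congr_hom π.w hT
        change ((AlgSt.ofSch (ConstAct.specInv R A G)).p.map
          (eqToHom (hobj (QuotTriv.pt x)).symm ≫ π.map hT ≫ z.obj.iso.inv) : V ⟶ z.obj.fst.base) = f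
        rw [Functor.map_comp, Functor.map_comp, e2, eqToHom_map, (vert_fp_iso z).inv.2]
        simp
      have e : (f ≫ z.obj.fst.sec.down) ≫ h = x ≫ ConstAct.quot R A G := by
        have e3 := congrArg ULift.down β.map_sec
        rw [hβ] at e3
        rw [Category.assoc]
        exact e3
      let z₂ := mkObj (f ≫ z.obj.fst.sec.down) x e
      let m₁ : z₂ ⟶ z := fpHomSet (F := H) (G := π) (x := z₂) (y := z) ⟨f, rfl⟩ hT (Category.id_comp _).symm
      obtain ⟨l, hl₁, hl₂⟩ := sq.exists_lift (f ≫ z.obj.fst.sec.down) x e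
      let m₂ : z₂ ⟶ z₀ := fpHomSet (F := H) (G := π) (x := z₂) (y := z₀)
        (⟨l, congrArg ULift.up hl₁⟩ : (QuotTriv.pt (f ≫ z.obj.fst.sec.down) : (AlgSt.ofSch E).obj) ⟶ QuotTriv.pt p₁)
        (qq.map (⟨l, congrArg ULift.up hl₂⟩ : (QuotTriv.pt x : (AlgSt.ofSch (ConstAct.X R A)).obj) ⟶ QuotTriv.pt p₂))
        ((Category.id_comp _).trans (Category.comp_id l)).symm
      have e1 : (AlgSp.yon _).map f ≫ secM φ z = secM φ z₂ := secM_map φ m₁
      have e2 : (AlgSp.yon _).map l ≫ ψ = secM φ z₂ := secM_map φ m₂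
      rw [e1, ← e2, ← hχ, ← Category.assoc, ← Category.assoc, ← Functor.map_comp, ← Functor.map_comp, hl₁]
    · obtain ⟨i⟩ := hχ'
      have e := congrArg (fun F => secM F z₀) (QuotTriv.eq_of_iso i)
      exact (hsec χ' z₀).symm.trans e
  · -- surjectivity on geometric points
    obtain ⟨x, hx⟩ := (orbits (R := R) (A := A) (G := G) Ω t).1 (m.down ≫ h)
    exact ⟨Functor.Fiber.mk (p := (fp H π).p) (a := mkObj m.down x hx.symm) rfl, psh_map_id _ _⟩
  · -- injectivity on geometric points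
    obtain ⟨z, hz⟩ := z
    obtain ⟨z', hz'⟩ := z'
    have hs : AlgSt.fibSec H (Functor.Fiber.mk (p := (AlgSt.ofSch E).p) (a := z.obj.fst) hz) =
        AlgSt.fibSec H (Functor.Fiber.mk (p := (AlgSt.ofSch E).p) (a := z'.obj.fst) hz') := by
      rw [fibSec_ofSpMap _ z.obj.fst hz, fibSec_ofSpMap _ z'.obj.fst hz']
      exact congrArg _ hzz
    obtain ⟨b⟩ := (hbij Ω t).2 _ _ ((fibSec_snd z hz).trans (hs.trans (fibSec_snd z' hz').symm))
    have hb : z.obj.fst = z'.obj.fst := QuotTriv.eltObj_ext (hz.trans hz'.symm) (by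
      have e := congrArg (((AlgSp.yon _).obj E).obj.map (eqToHom hz).op) hzz
      simp only [AlgSt.fibSec] at e
      rw [← Functor.map_comp_apply, ← Functor.map_comp_apply, ← op_comp, ← op_comp, eqToHom_trans, eqToHom_trans] at e
      exact e.symm.trans (psh_map_id _ _))
    obtain ⟨hbb, hbv⟩ := vert_of_isHomLift b.hom.2
    let m : z ⟶ z' := fpHomSet (F := H) (G := π) (x := z) (y := z') (eqToHom hb) b.hom.1 (by
      refine hbv.trans ?_
      change _ = eqToHom _ ≫ (eqToHom hb).hom ≫ eqToHom _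
      rw [QuotTriv.eqToHom_hom]
      simp)
    have hm : Vert (𝒳 := fp H π) m := ⟨hz.trans hz'.symm, QuotTriv.eqToHom_hom hb⟩
    have := hm.isIso (isFibGrpd_fp (Stk.isFibGrpd_ofPsh _) (QuotBr.isStack (aX := ConstAct.gaction R A G)).1
      (Stk.isFibGrpd_ofPsh _) H π)
    exact ⟨{
      hom := ⟨m, hm.isHomLift hz⟩
      inv := ⟨inv m, (Vert.inv (φ := asIso m) hm).isHomLift hz'⟩
      hom_inv_id := Subtype.ext (IsIso.hom_inv_id m)
      inv_hom_id := Subtype.ext (IsIso.inv_hom_id m) }⟩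

end Groth.Agent.StFib.ConstQuot
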