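import Groth.Prelude.Def_ConstAct
import Mathlib.RingTheory.Invariant.Basic
import Mathlib.RingTheory.IntegralClosure.IntegralRestrict
import Mathlib.FieldTheory.IsAlgClosed.Basic
import Mathlib.Algebra.MvPolynomial.Equiv

/-!
# Points of a ring with a finite group action and points of the invariants
-/

set_option autoImplicit false
set_option linter.unusedVariables false
set_option linter.style.haveILetI false

universe u

open Polynomial

namespace Groth.Agent.StFib.ConstQuot

variable {R A G : Type u} [CommRing R] [CommRing A] [Algebra R A] [Group G] [Finite G] [MulSemiringAction G A]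
  [SMulCommClass G R A]

instance instIsInvariant : Algebra.IsInvariant (ConstAct.inv R A G) A G := ⟨fun a ha => ⟨⟨a, ha⟩, rfl⟩⟩

instance instIntegral : Algebra.IsIntegral (ConstAct.inv R A G) A :=
  Algebra.IsInvariant.isIntegral (ConstAct.inv R A G) A G

/-- Two maps to a domain which agree on the invariants differ by an element of the group. -/
theorem exists_smul_of_eq_on_inv {K : Type u} [CommRing K] [IsDomain K] (x x' : A →+* K)
    (h : ∀ a ∈ ConstAct.inv R A G, x a = x' a) : ∃ g : G, ∀ a, x' a = x (g • a) := by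
  classical
  haveI := Fintype.ofFinite G
  by_contra hc
  push Not at hc
  choose w hw using hc
  let σ : G → MvPolynomial G A →+* MvPolynomial G A := fun g =>
    MvPolynomial.map (MulSemiringAction.toRingHom G A g)
  let P : MvPolynomial G A := ∑ g, MvPolynomial.C (w g) * MvPolynomial.X g
  let Q : (MvPolynomial G A)[X] := ∏ g : G, (X - C (σ g P))
  have hσ : ∀ k g, (σ k).comp (σ g) = σ (k * g) := fun k g => by
    apply MvPolynomial.ringHom_ext <;> intro i
    · simp [σ, mul_smul]
    · simp [σ]
  have hQ : ∀ k, Q.map (σ k) = Q := fun k => by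
    simp only [Q, Polynomial.map_prod, Polynomial.map_sub, Polynomial.map_X, Polynomial.map_C]
    exact Fintype.prod_equiv (Equiv.mulLeft k) _ _ fun g => by
      simp only [RingHom.comp_apply, Equiv.coe_mulLeft, ← hσ k g]
  let m : MvPolynomial G A →+* MvPolynomial G K := MvPolynomial.map x
  let m' : MvPolynomial G A →+* MvPolynomial G K := MvPolynomial.map x'
  have hmQ : Q.map m = Q.map m' := by
    ext n d
    rw [Polynomial.coeff_map, Polynomial.coeff_map, MvPolynomial.coeff_map, MvPolynomial.coeff_map]
    refine h _ fun k => ?_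
    have := congrArg (fun p : (MvPolynomial G A)[X] => MvPolynomial.coeff d (p.coeff n)) (hQ k)
    rwa [Polynomial.coeff_map, MvPolynomial.coeff_map] at this
  have he : (Q.map m).eval (m' P) = (Q.map m').eval (m' P) := by rw [hmQ]
  simp only [Q, Polynomial.map_prod, Polynomial.map_sub, Polynomial.map_X, Polynomial.map_C,
    Polynomial.eval_prod, Polynomial.eval_sub, Polynomial.eval_X, Polynomial.eval_C] at he
  have h0 : ∏ g : G, (m' P - m' (σ g P)) = 0 := Finset.prod_eq_zero (Finset.mem_univ 1) (by
    have : σ 1 P = P := by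
      have : σ 1 = RingHom.id _ := by apply MvPolynomial.ringHom_ext <;> intro i <;> simp [σ]
      rw [this]; rfl
    rw [this, sub_self])
  rw [h0] at he
  obtain ⟨g, -, hg⟩ := Finset.prod_eq_zero_iff.1 he
  have hg' := congrArg (MvPolynomial.coeff (Finsupp.single g 1)) (sub_eq_zero.1 hg)
  simp [m, m', σ, P, MvPolynomial.coeff_X, Finsupp.single_eq_single_iff, MvPolynomial.coeff_sum] at hg'
  exact hw g hg'

/-- Points of the invariants with values in an algebraically closed field extend. -/
theorem exists_extend {K : Type u} [Field K] [IsAlgClosed K] (y : ConstAct.inv R A G →+* K) :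
    ∃ x : A →+* K, x.comp (algebraMap (ConstAct.inv R A G) A) = y := by
  let B := ConstAct.inv R A G
  let p : Ideal B := RingHom.ker y
  haveI : p.IsPrime := RingHom.ker_isPrime y
  obtain ⟨P, -, hPp⟩ := Ideal.exists_ideal_over_prime_of_isIntegral p (⊥ : Ideal A) (by
    intro b hb
    have hb0 : (b : A) = 0 := hb
    rw [show b = 0 from Subtype.ext hb0]
    exact p.zero_mem)
  obtain ⟨hP, hPp⟩ := hPp
  haveI := hP
  haveI : P.LiesOver p := ⟨hPp.symm⟩
  letI : Algebra (B ⧸ p) K := (Ideal.Quotient.lift p y fun b hb => hb).toAlgebra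
  have hinj : Function.Injective (algebraMap (B ⧸ p) K) :=
    RingHom.lift_injective_of_ker_le_ideal p _ le_rfl
  haveI : Module.IsTorsionFree (B ⧸ p) K := Module.isTorsionFree_iff_algebraMap_injective.2 hinj
  haveI : Algebra.IsIntegral (B ⧸ p) (A ⧸ P) := ⟨fun a => by
    obtain ⟨a, rfl⟩ := Ideal.Quotient.mk_surjective a
    obtain ⟨q, hq, hqa⟩ := Algebra.IsIntegral.isIntegral (R := B) a
    refine ⟨q.map (Ideal.Quotient.mk p), hq.map _, ?_⟩
    rw [Polynomial.eval₂_map]
    have := congrArg (Ideal.Quotient.mk P) hqa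
    rwa [Polynomial.hom_eval₂, map_zero] at this⟩
  haveI : Algebra.IsAlgebraic (B ⧸ p) (A ⧸ P) := Algebra.IsIntegral.isAlgebraic
  haveI : Module.IsTorsionFree (B ⧸ p) (A ⧸ P) :=
    Module.isTorsionFree_iff_algebraMap_injective.2 ((injective_iff_map_eq_zero _).2 fun b hb => by
      obtain ⟨b, rfl⟩ := Ideal.Quotient.mk_surjective b
      have hb' : algebraMap B A b ∈ P := Ideal.Quotient.eq_zero_iff_mem.1 hb
      exact Ideal.Quotient.eq_zero_iff_mem.2 (hPp ▸ hb' : b ∈ p))
  let f : A ⧸ P →ₐ[B ⧸ p] K := IsAlgClosed.lift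
  refine ⟨f.toRingHom.comp (Ideal.Quotient.mk P), RingHom.ext fun b => ?_⟩
  exact f.commutes (Ideal.Quotient.mk p b)

end Groth.Agent.StFib.ConstQuot
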