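import Groth.Prelude.Def_ConstAct2
import Groth.Agent.StFib.ConstQuot.Orbit
import Groth.Agent.AlgSp.Basic

/-!
# Points of the constant group acting on an affine scheme
-/

set_option autoImplicit false
set_option linter.unusedVariables false
set_option backward.isDefEq.respectTransparency false
set_option backward.isDefEq.respectTransparency.types false

universe u

open CategoryTheory CategoryTheory.Limits AlgebraicGeometry Opposite MonoidalCategory CartesianMonoidalCategory
open CoactBr (sp pt pt_comp pt_id pt_injective)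

namespace Groth.Agent.StFib.ConstQuot

variable {R : Type u} [CommRing R]

/-- Morphisms between spectra over the base are algebra maps. -/
theorem exists_pt {C D : Type u} [CommRing C] [CommRing D] [Algebra R C] [Algebra R D] (x : sp R D ⟶ sp R C) :
    ∃ a : C →ₐ[R] D, pt a = x := by
  obtain ⟨φ, hφ⟩ := Spec.map_surjective x.left
  have hw : Spec.map φ ≫ Spec.map (CommRingCat.ofHom (algebraMap R C)) = Spec.map (CommRingCat.ofHom (algebraMap R D)) := by
    rw [hφ]; exact Over.w x
  rw [← Spec.map_comp] at hw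
  have hw' := congrArg CommRingCat.Hom.hom (Spec.map_injective hw)
  refine ⟨{ φ.hom with commutes' := fun r => RingHom.congr_fun hw' r }, Over.OverMorphism.ext ?_⟩
  rw [CoactBr.pt_left]
  exact hφ

variable {A G : Type u} [CommRing A] [Algebra R A] [Group G] [Fintype G] [DecidableEq G] [MulSemiringAction G A]
  [SMulCommClass G R A]

theorem act_eq_pt (g : G) : ConstAct.act R A G g = pt (MulSemiringAction.toAlgEquiv R A g : A →ₐ[R] A) := by
  refine Over.OverMorphism.ext ?_
  rw [ConstAct.act_left, CoactBr.pt_left]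
  rfl

theorem quot_eq_pt : ConstAct.quot R A G = pt (ConstAct.inv R A G).val := Over.OverMorphism.ext rfl

/-- An invariant map is invariant under the automorphisms of the group. -/
theorem act_comp_eq {N : AlgSp.Sp (Spec (CommRingCat.of R))} (ψ : (AlgSp.yon _).obj (ConstAct.X R A) ⟶ N)
    (hψ : (AlgSp.yon _).map (ConstAct.gaction R A G).act ≫ ψ =
      (AlgSp.yon _).map (snd (ConstAct.GR R G) (ConstAct.X R A)) ≫ ψ) (g : G) :
    (AlgSp.yon _).map (ConstAct.act R A G g) ≫ ψ = ψ := by
  let L := lift (pt (ConstAct.constPt R G (K := A) g⁻¹)) (pt (AlgHom.id R A))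
  have h1 : L ≫ (ConstAct.gaction R A G).act = ConstAct.act R A G g := by
    rw [ConstAct.gaction_constPt, inv_inv, pt_id, Category.id_comp]
  have h2 : L ≫ snd (ConstAct.GR R G) (ConstAct.X R A) = 𝟙 (sp R A) := by
    rw [lift_snd, pt_id]
  have h := congrArg ((AlgSp.yon _).map L ≫ ·) hψ
  simp only [← Category.assoc, ← Functor.map_comp] at h
  rw [h1, h2, CategoryTheory.Functor.map_id] at h
  exact h.trans (Category.id_comp ψ)

/-- The orbit description of the geometric fibres. -/
theorem orbits (Ω : Type u) [Field Ω] [IsAlgClosed Ω]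
    (t : Spec (CommRingCat.of Ω) ⟶ Spec (CommRingCat.of R)) :
    (∀ y : Over.mk t ⟶ ConstAct.specInv R A G, ∃ x : Over.mk t ⟶ ConstAct.X R A, x ≫ ConstAct.quot R A G = y) ∧
      (∀ x x' : Over.mk t ⟶ ConstAct.X R A, x ≫ ConstAct.quot R A G = x' ≫ ConstAct.quot R A G →
        ∃ g : Over.mk t ⟶ ConstAct.GR R G, lift g x' ≫ (ConstAct.gaction R A G).act = x) := by
  obtain ⟨φ, rfl⟩ := Spec.map_surjective t
  letI : Algebra R Ω := φ.hom.toAlgebra
  change (∀ y : sp R Ω ⟶ sp R (ConstAct.inv R A G), ∃ x : sp R Ω ⟶ sp R A, x ≫ ConstAct.quot R A G = y) ∧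
    (∀ x x' : sp R Ω ⟶ sp R A, x ≫ ConstAct.quot R A G = x' ≫ ConstAct.quot R A G →
        ∃ g : sp R Ω ⟶ ConstAct.GR R G, lift g x' ≫ (ConstAct.gaction R A G).act = x)
  refine ⟨fun y => ?_, fun x x' h => ?_⟩
  · obtain ⟨b, rfl⟩ := exists_pt y
    obtain ⟨a, ha⟩ := exists_extend b.toRingHom
    let a' : A →ₐ[R] Ω := { a with
      commutes' := fun r => (RingHom.congr_fun ha (algebraMap R _ r)).trans (b.commutes r) }
    refine ⟨pt a', ?_⟩
    rw [quot_eq_pt, ← pt_comp]
    exact congrArg pt (AlgHom.ext fun z => RingHom.congr_fun ha z)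
  · obtain ⟨a, rfl⟩ := exists_pt x
    obtain ⟨a', rfl⟩ := exists_pt x'
    rw [quot_eq_pt, ← pt_comp, ← pt_comp] at h
    obtain ⟨g, hg⟩ := exists_smul_of_eq_on_inv (R := R) a'.toRingHom a.toRingHom fun z hz =>
      (AlgHom.congr_fun (pt_injective h) ⟨z, hz⟩).symm
    refine ⟨pt (ConstAct.constPt R G g⁻¹), ?_⟩
    rw [ConstAct.gaction_constPt, inv_inv, ← ConstAct.pt_comp_toAlgEquiv]
    exact congrArg pt (AlgHom.ext fun z => (hg z).symm)

end Groth.Agent.StFib.ConstQuot
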