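import Groth.Agent.StFib.ConstQuot.Basic
import Groth.Agent.AlgSp.Space
import Groth.Agent.AlgSp.DescentGlue
import Groth.Agent.AlgSpB.Diag
import Groth.Agent.GrpdLib.FiniteInAffine

/-!
# Invariant affine charts of an invariant map to an algebraic space
-/

set_option autoImplicit false
set_option linter.unusedVariables false
set_option linter.unusedSectionVars false
set_option linter.style.haveILetI false
set_option backward.isDefEq.respectTransparency false
set_option backward.isDefEq.respectTransparency.types false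
set_option maxHeartbeats 1600000

universe u

open CategoryTheory CategoryTheory.Limits AlgebraicGeometry Opposite MonoidalCategory CartesianMonoidalCategory
open CoactBr (sp pt pt_comp pt_id pt_injective)

namespace Groth.Agent.StFib.ConstQuot

variable {R : Type u} [CommRing R] {A G : Type u} [CommRing A] [Algebra R A] [Group G] [Fintype G] [DecidableEq G]
  [MulSemiringAction G A] [SMulCommClass G R A]

local notation "SR" => Spec (CommRingCat.of R)
local notation "Y" => AlgSp.yon (Spec (CommRingCat.of R))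

/-- An invariant affine chart: an algebra with an action, an equivariant etale map, and an invariant map to an affine
scheme. -/
structure Chart {N : AlgSp.Sp SR} (ψ : (Y).obj (sp R A) ⟶ N) where
  A' : Type u
  [cA' : CommRing A']
  [rA' : Algebra R A']
  [gA' : MulSemiringAction G A']
  [sA' : SMulCommClass G R A']
  φ : A →ₐ[R] A'
  equiv : ∀ (g : G) (a : A), φ (g • a) = g • φ a
  etale : φ.toRingHom.Etale
  V : Over SR
  [affV : IsAffine V.left]
  v : sp R A' ⟶ V
  χ : (Y).obj V ⟶ N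
  comm : (Y).map v ≫ χ = (Y).map (pt φ) ≫ ψ
  inv_v : ∀ g : G, pt (MulSemiringAction.toAlgEquiv R A' g : A' →ₐ[R] A') ≫ v = v
  sep : ∀ (D : Type u) [CommRing D] [Algebra R D] (a b : A' →ₐ[R] D), a.comp φ = b.comp φ →
    pt a ≫ v = pt b ≫ v → a = b

attribute [instance] Chart.cA' Chart.rA' Chart.gA' Chart.sA' Chart.affV

theorem exists_chart {N : AlgSp.Sp SR} (hN : AlgSp.IsAlgSpace N) (ψ : (Y).obj (sp R A) ⟶ N)
    (hψ : ∀ g : G, (Y).map (ConstAct.act R A G g) ≫ ψ = ψ) (p : PrimeSpectrum A) :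
    ∃ (c : Chart (G := G) ψ) (q : PrimeSpectrum c.A'), PrimeSpectrum.comap c.φ.toRingHom q = p := by
  obtain ⟨U, π, hπe, hπs⟩ := hN.atlas
  obtain ⟨P₀, k₀, l₀, sq₀⟩ := Groth.Agent.AlgSp.exists_isPullback_yon hN.diag ψ π
  have hk₀ : Surjective k₀.left := hπs.2 _ _ _ sq₀.flip
  obtain ⟨w₀, hw₀⟩ := hk₀.surj p
  obtain ⟨_, ⟨(O : U.left.Opens), hO, rfl⟩, hmem, -⟩ :=
    U.left.isBasis_affineOpens.exists_subset_of_mem_open (Set.mem_univ (l₀.left w₀)) isOpen_univ
  let V : Over SR := Groth.Agent.AlgSp.openOver U O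
  haveI : IsAffine V.left := hO
  let χ : (Y).obj V ⟶ N := (Y).map (Groth.Agent.AlgSp.openι U O) ≫ π
  have hχe : AlgSp.RepWith @Etale χ :=
    (AlgSp.RepWith _).comp_mem _ _ ((AlgSp.repWith_yon_map_iff _ _).2 (inferInstanceAs (Etale O.ι))) hπe
  obtain ⟨P, k, l, sq⟩ := Groth.Agent.AlgSp.exists_isPullback_yon hN.diag ψ χ
  have hke : Etale k.left := hχe.2 _ _ _ sq.flip
  -- a point over `p`
  let O₀ : Over SR := Groth.Agent.AlgSp.openOver P₀ (l₀.left ⁻¹ᵁ O)
  let r : O₀ ⟶ V := Over.homMk (l₀.left ∣_ O) (by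
    change (l₀.left ∣_ O) ≫ O.ι ≫ U.hom = (l₀.left ⁻¹ᵁ O).ι ≫ P₀.hom
    rw [morphismRestrict_ι_assoc, Over.w l₀])
  have hr : r ≫ Groth.Agent.AlgSp.openι U O = Groth.Agent.AlgSp.openι P₀ _ ≫ l₀ :=
    Over.OverMorphism.ext (morphismRestrict_ι _ _)
  obtain ⟨u₀, hu₁, hu₂⟩ := sq.exists_lift ((Y).map (Groth.Agent.AlgSp.openι P₀ (l₀.left ⁻¹ᵁ O) ≫ k₀)) ((Y).map r) (by
    rw [Functor.map_comp, Category.assoc, sq₀.w, ← Category.assoc, ← Functor.map_comp, ← hr, Functor.map_comp,
      Category.assoc])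
  obtain ⟨u₀, rfl⟩ := (Y).map_surjective u₀
  let w : P.left := u₀.left ⟨w₀, hmem⟩
  have hw : k.left w = p := by
    have e : u₀ ≫ k = Groth.Agent.AlgSp.openι P₀ (l₀.left ⁻¹ᵁ O) ≫ k₀ :=
      (Y).map_injective ((Functor.map_comp _ _ _).trans hu₁)
    rw [← Scheme.Hom.comp_apply, ← Over.comp_left, e]
    exact hw₀
  have hext : ∀ {T : Over SR} (a b : T ⟶ P), a ≫ k = b ≫ k → a ≫ l = b ≫ l → a = b := fun a b h₁ h₂ =>
    (Y).map_injective (sq.hom_ext (by rw [← Functor.map_comp, ← Functor.map_comp, h₁])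
      (by rw [← Functor.map_comp, ← Functor.map_comp, h₂]))
  -- separation
  have hmono : Mono (Groth.Agent.AlgSpB.pairHom k l) :=
    Groth.Agent.AlgSpB.prop_pairHom (P := MorphismProperty.monomorphisms Scheme.{u})
      (Groth.Agent.AlgSp.repWith_diag_mono N hN.diag) sq
  haveI : IsAffine (sp R A).left := inferInstanceAs (IsAffine (Spec (CommRingCat.of A)))
  have : IsAffine (pullback (sp R A).hom V.hom) := inferInstance
  have hPsep : P.left.IsSeparated := by
    have : IsSeparated (Groth.Agent.AlgSpB.pairHom k l) := inferInstance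
    have : IsSeparated (Groth.Agent.AlgSpB.pairHom k l ≫ terminal.from _) := inferInstance
    exact ⟨by rwa [terminal.comp_from] at this⟩
  have : IsSeparated k.left := by
    have : IsSeparated (k.left ≫ terminal.from _) := by rw [terminal.comp_from]; exact hPsep.1
    exact IsSeparated.of_comp k.left (terminal.from _)
  -- the action
  have hγ : ∀ g : G, ∃ γ : P ⟶ P, γ ≫ k = k ≫ ConstAct.act R A G g ∧ γ ≫ l = l := fun g => by
    obtain ⟨γ, hγ₁, hγ₂⟩ := sq.exists_lift ((Y).map (k ≫ ConstAct.act R A G g)) ((Y).map l) (by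
      rw [Functor.map_comp, Category.assoc, hψ, sq.w])
    obtain ⟨γ, rfl⟩ := (Y).map_surjective γ
    exact ⟨γ, (Y).map_injective ((Functor.map_comp _ _ _).trans hγ₁),
      (Y).map_injective ((Functor.map_comp _ _ _).trans hγ₂)⟩
  choose γ hγk hγl using hγ
  have hγ1 : γ 1 = 𝟙 P := hext _ _ (by
      rw [hγk, ConstAct.act_one]
      exact (Category.comp_id k).trans (Category.id_comp k).symm)
    (by rw [hγl, Category.id_comp])
  have hγm : ∀ g h, γ g ≫ γ h = γ (g * h) := fun g h => hext _ _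
    (by rw [Category.assoc, hγk, hγk, reassoc_of% (hγk g), ← ConstAct.act_mul])
    (by rw [Category.assoc, hγl, hγl, hγl])
  have hγi : ∀ g, IsIso (γ g).left := fun g => by
    have : IsIso (γ g) := ⟨γ g⁻¹, by rw [hγm, mul_inv_cancel, hγ1], by rw [hγm, inv_mul_cancel, hγ1]⟩
    exact inferInstanceAs (IsIso ((Over.forget SR).map (γ g)))
  have : LocallyQuasiFinite k.left := ⟨fun {V'} hV {W'} hW e => by
    have h2 := k.left.etale_appLE hV hW e
    have h1 := h2.formallyUnramified
    algebraize [(k.left.appLE V' W' e).hom]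
    exact RingHom.quasiFinite_algebraMap.2 inferInstance⟩
  obtain ⟨W₀, hW₀, hOW₀⟩ := Groth.Agent.GrpdLib.exists_affine_of_finite_of_lqf k.left
    (F := Set.range fun g => (γ g).left w) (Set.finite_range _)
  let W : P.left.Opens := ⨅ g, (γ g).left ⁻¹ᵁ W₀
  have : IsAffineHom (pullback.diagonal (terminal.from P.left)) := by
    have := hPsep.1
    infer_instance
  have hW : IsAffineOpen W := IsAffineOpen.iInf fun g => by
    have := hγi g
    exact hW₀.preimage_of_isIso _
  have hmemW : ∀ (x : P.left), x ∈ W ↔ ∀ g, (γ g).left x ∈ W₀ := fun x => by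
    change x ∈ (↑(⨅ g, (γ g).left ⁻¹ᵁ W₀) : Set P.left) ↔ _
    rw [TopologicalSpace.Opens.coe_iInf, Set.mem_iInter]
    rfl
  have hwW : w ∈ W := (hmemW w).2 fun g => hOW₀ ⟨g, rfl⟩
  have hWst : ∀ h x, x ∈ W → (γ h).left x ∈ W := fun h x hx => (hmemW _).2 fun g => by
    rw [← Scheme.Hom.comp_apply, ← Over.comp_left, hγm]
    exact (hmemW x).1 hx _
  -- the algebra
  let A' : Type u := Γ(P.left, W)
  obtain ⟨φ, hφ⟩ := Spec.map_surjective (hW.fromSpec ≫ k.left)
  letI : Algebra R A' := (φ.hom.comp (algebraMap R A)).toAlgebra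
  let φ' : A →ₐ[R] A' := { φ.hom with commutes' := fun r => rfl }
  let j : sp R A' ⟶ P := Over.homMk hW.fromSpec (by
    change hW.fromSpec ≫ P.hom = Spec.map (CommRingCat.ofHom (φ.hom.comp (algebraMap R A)))
    rw [← Over.w k, ← Category.assoc, ← hφ, CommRingCat.ofHom_comp, Spec.map_comp]
    rfl)
  have hjk : j ≫ k = pt φ' := Over.OverMorphism.ext (by rw [CoactBr.pt_left]; exact hφ.symm)
  haveI : IsOpenImmersion j.left := inferInstanceAs (IsOpenImmersion hW.fromSpec)
  have hj : Mono j := (Over.forget SR).mono_of_mono_map (inferInstanceAs (Mono hW.fromSpec))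
  have hδ : ∀ g, ∃ θ : A' →ₐ[R] A', pt θ ≫ j = j ≫ γ g := fun g => by
    have hsub : Set.range (hW.fromSpec ≫ (γ g).left) ⊆ Set.range hW.fromSpec := by
      rw [hW.range_fromSpec]
      rintro _ ⟨z, rfl⟩
      rw [Scheme.Hom.comp_apply]
      exact hWst g _ (hW.range_fromSpec.le ⟨z, rfl⟩)
    let δ : sp R A' ⟶ sp R A' := Over.homMk (IsOpenImmersion.lift hW.fromSpec _ hsub) (by
      rw [← Over.w j]
      change IsOpenImmersion.lift _ _ hsub ≫ hW.fromSpec ≫ P.hom = hW.fromSpec ≫ P.hom
      rw [IsOpenImmersion.lift_fac_assoc, Category.assoc, Over.w (γ g)])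
    obtain ⟨θ, hθ⟩ := exists_pt δ
    exact ⟨θ, by rw [hθ]; exact Over.OverMorphism.ext (IsOpenImmersion.lift_fac _ _ hsub)⟩
  choose θ hθ using hδ
  have hθ1 : θ 1 = AlgHom.id R A' := pt_injective ((cancel_mono j).1 (by
    rw [hθ, hγ1, Category.comp_id, pt_id, Category.id_comp]))
  have hθm : ∀ g h, θ (g * h) = (θ g).comp (θ h) := fun g h => pt_injective ((cancel_mono j).1 (by
    rw [hθ, pt_comp, Category.assoc, hθ, reassoc_of% (hθ g), hγm]))
  letI : MulSemiringAction G A' :=
    { smul := fun g a => θ g a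
      one_smul := fun a => by change θ 1 a = a; rw [hθ1]; rfl
      mul_smul := fun g h a => by change θ (g * h) a = θ g (θ h a); rw [hθm]; rfl
      smul_zero := fun g => map_zero (θ g)
      smul_add := fun g => map_add (θ g)
      smul_one := fun g => map_one (θ g)
      smul_mul := fun g => map_mul (θ g) }
  haveI : SMulCommClass G R A' := ⟨fun g r a => map_smul (θ g) r a⟩
  have heq : ∀ g, (θ g).comp φ' = φ'.comp (MulSemiringAction.toAlgEquiv R A g : A →ₐ[R] A) := fun g =>
    pt_injective (by rw [pt_comp, pt_comp, ← act_eq_pt, ← hjk, reassoc_of% (hθ g), hγk, Category.assoc])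
  have hinvl : ∀ g : G, pt (MulSemiringAction.toAlgEquiv R A' g : A' →ₐ[R] A') ≫ j ≫ l = j ≫ l := fun g => by
    rw [show (MulSemiringAction.toAlgEquiv R A' g : A' →ₐ[R] A') = θ g from AlgHom.ext fun _ => rfl,
      reassoc_of% (hθ g), hγl]
  refine ⟨
    { A' := A'
      φ := φ'
      equiv := fun g a => (AlgHom.congr_fun (heq g) a).symm
      etale := ?_
      V := V
      v := j ≫ l
      χ := χ
      comm := by rw [← hjk, Functor.map_comp, Functor.map_comp, Category.assoc, Category.assoc, sq.w]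
      inv_v := hinvl
      sep := fun D _ _ a b h₁ h₂ => pt_injective ((cancel_mono j).1 (hext _ _
        (by rw [Category.assoc, Category.assoc, hjk, ← pt_comp, ← pt_comp, h₁])
        (by rw [Category.assoc, Category.assoc]; exact h₂))) }, hW.primeIdealOf ⟨w, hwW⟩, ?_⟩
  · have : Etale (Spec.map φ) := by rw [hφ]; infer_instance
    exact (HasRingHomProperty.Spec_iff (P := @Etale)).1 this
  · change Spec.map φ (hW.primeIdealOf ⟨w, hwW⟩) = p
    rw [hφ, Scheme.Hom.comp_apply, hW.fromSpec_primeIdealOf]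
    exact hw

end Groth.Agent.StFib.ConstQuot
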