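import Groth.Agent.EtaleSite.TopInv

/-!
# Etale ring maps bijective on geometric points
-/

set_option autoImplicit false
set_option linter.unusedVariables false

universe u

open CategoryTheory AlgebraicGeometry

namespace Groth.Agent.StFib.ConstQuot

theorem bijective_of_points {T A' : Type u} [CommRing T] [CommRing A'] (f : T →+* A') (het : f.Etale)
    (hsurj : ∀ (K : Type u) [Field K] [IsAlgClosed K] (ω : T →+* K), ∃ x : A' →+* K, x.comp f = ω)
    (hinj : ∀ (K : Type u) [Field K] (x x' : A' →+* K), x.comp f = x'.comp f → x = x') : Function.Bijective f := by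
  let p := Spec.map (CommRingCat.ofHom f)
  haveI : Etale p := (HasRingHomProperty.Spec_iff (P := @Etale)).2 het
  haveI : UniversallyInjective p := ((tfae_universallyInjective (f := p)).out 0 1).2 fun K hK g₁ g₂ hg => by
    letI : Field K := hK
    obtain ⟨x, rfl⟩ := Spec.map_surjective g₁
    obtain ⟨x', rfl⟩ := Spec.map_surjective g₂
    have h := hg
    simp only [p, ← Spec.map_comp] at h
    exact congrArg Spec.map (CommRingCat.hom_ext (hinj K x.hom x'.hom
      (congrArg CommRingCat.Hom.hom (Spec.map_injective h))))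
  haveI : Surjective p := ⟨fun (Q : PrimeSpectrum T) => by
    obtain ⟨x, hx⟩ := hsurj (AlgebraicClosure Q.asIdeal.ResidueField)
      ((algebraMap Q.asIdeal.ResidueField _).comp (algebraMap T Q.asIdeal.ResidueField))
    refine ⟨⟨RingHom.ker x, RingHom.ker_isPrime x⟩, PrimeSpectrum.ext (Ideal.ext fun t => ?_)⟩
    change x (f t) = 0 ↔ t ∈ Q.asIdeal
    rw [← RingHom.comp_apply, hx, RingHom.comp_apply, map_eq_zero]
    exact Ideal.algebraMap_residueField_eq_zero⟩
  haveI : IsIso p := EtaleSite.isIso_of_etale_of_universallyInjective p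
  haveI : IsIso (Scheme.Spec.map (CommRingCat.ofHom f).op) := ‹IsIso p›
  haveI : IsIso (CommRingCat.ofHom f).op := isIso_of_fully_faithful Scheme.Spec _
  haveI : IsIso (CommRingCat.ofHom f) := (isIso_op_iff _).1 inferInstance
  exact ConcreteCategory.bijective_of_isIso (CommRingCat.ofHom f)

end Groth.Agent.StFib.ConstQuot
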