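import Groth.Agent.StFib.ConstQuot.Model
import Groth.Agent.StFib.ConstQuot.EtaleBij
import Groth.Agent.StFib.ConstQuot.Orbit
import Groth.Agent.CAlg48.InvPol
import Groth.Agent.S16835

/-!
# Invariants of inertia preserving etale maps, without finiteness
-/

set_option autoImplicit false
set_option linter.unusedVariables false
set_option linter.style.haveILetI false
set_option maxHeartbeats 1600000
set_option synthInstance.maxHeartbeats 100000
set_option backward.isDefEq.respectTransparency false
set_option backward.isDefEq.respectTransparency.types false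

universe u

open scoped TensorProduct

namespace Groth.Agent.StFib.ConstQuot

variable {R A A' G : Type u} [CommRing R] [CommRing A] [Algebra R A] [CommRing A'] [Algebra R A'] [Group G]
  [MulSemiringAction G A] [SMulCommClass G R A] [MulSemiringAction G A'] [SMulCommClass G R A']

theorem etale_invariants [IsNoetherianRing R] [Finite G] (φ : A →ₐ[R] A')
    (hφ : ∀ (g : G) (a : A), φ (g • a) = g • φ a) (het : φ.toRingHom.Etale)
    (hJ : ∀ (g : G) (x : A'), g • x - x ∈ Ideal.span (Set.range fun a : A => φ (g • a - a)))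
    [Algebra (ConstAct.inv R A G) (ConstAct.inv R A' G)]
    (hcompat : ∀ b : ConstAct.inv R A G,
      (algebraMap (ConstAct.inv R A G) (ConstAct.inv R A' G) b : A') = φ b) :
    Algebra.Etale (ConstAct.inv R A G) (ConstAct.inv R A' G) := by
  obtain ⟨A₁, A₂, hle, hA₁, hA₂, hs₁, hs₂, het₁, hext, hlift, hin⟩ := exists_model φ hφ het hJ
  letI := subAction (G := G) A₁ hs₁
  letI := subAction (G := G) A₂ hs₂
  haveI : SMulCommClass G R A₁ := ⟨fun g r a => Subtype.ext (smul_comm g r (a : A))⟩
  haveI : SMulCommClass G R A₂ := ⟨fun g r a => Subtype.ext (smul_comm g r (a : A'))⟩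
  haveI : Algebra.FiniteType R A₁ := (Subalgebra.fg_iff_finiteType A₁).1 hA₁
  haveI : Algebra.FiniteType R A₂ := (Subalgebra.fg_iff_finiteType A₂).1 hA₂
  let φ₁ : A₁ →ₐ[R] A₂ := (φ.comp A₁.val).codRestrict A₂ fun a => hle a a.2
  letI alg₁₂ : Algebra A₁ A₂ := φ₁.toRingHom.toAlgebra
  haveI : IsScalarTower R A₁ A₂ := IsScalarTower.of_algHom φ₁
  haveI : Algebra.Etale A₁ A₂ := RingHom.etale_algebraMap.1 het₁
  have hφ₁ : ∀ (g : G) (a : A₁), φ₁ (g • a) = g • φ₁ a := fun g a => Subtype.ext (hφ g a)
  let B := ConstAct.inv R A G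
  let B' := ConstAct.inv R A' G
  let D₁ := ConstAct.inv R A₁ G
  let E₁ := ConstAct.inv R A₂ G
  let ι₁ : D₁ →ₐ[R] B := (A₁.val.comp D₁.val).codRestrict B fun z g => congrArg Subtype.val (z.2 g)
  let ι₂ : E₁ →ₐ[R] B' := (A₂.val.comp E₁.val).codRestrict B' fun z g => congrArg Subtype.val (z.2 g)
  let φD : D₁ →ₐ[R] E₁ := (φ₁.comp D₁.val).codRestrict E₁ fun z g => by
    change g • φ₁ (z : A₁) = φ₁ (z : A₁)
    rw [← hφ₁, z.2 g]
  letI : Algebra D₁ E₁ := φD.toRingHom.toAlgebra
  haveI : IsScalarTower D₁ E₁ A₂ := IsScalarTower.of_algebraMap_eq fun _ => rfl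
  have hEt : Algebra.Etale D₁ E₁ :=
    Groth.Agent.S16835.result R A₂ A₁ G (fun g b => hφ₁ g b) fun x hx => by
      refine ⟨inferInstance, le_antisymm (fun g hg a => ?_) fun g hg => ?_⟩
      · change algebraMap A₁ A₂ (g • a - a) ∈ x
        rw [map_sub, show algebraMap A₁ A₂ (g • a) = g • algebraMap A₁ A₂ a from hφ₁ g a]
        exact hg _
      · intro y
        refine (Ideal.Quotient.eq).1 (hin g _ (Ideal.Quotient.mk x) (fun a ha hga => ?_) y y.2 (hs₂ g y y.2))
        refine (Ideal.Quotient.eq).2 ?_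
        have h9 : algebraMap A₁ A₂ (g • (⟨a, ha⟩ : A₁) - ⟨a, ha⟩) ∈ x := hg ⟨a, ha⟩
        rw [map_sub] at h9
        exact h9
  -- base change to all invariants
  letI : Algebra D₁ B := ι₁.toRingHom.toAlgebra
  letI : Algebra D₁ A := (A₁.val.comp D₁.val).toRingHom.toAlgebra
  haveI : IsScalarTower D₁ B A := IsScalarTower.of_algebraMap_eq fun _ => rfl
  letI : Algebra A A' := φ.toRingHom.toAlgebra
  haveI : Algebra.Etale A A' := RingHom.etale_algebraMap.1 het
  letI : Algebra D₁ A' := (φ.comp (A₁.val.comp D₁.val)).toRingHom.toAlgebra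
  haveI : IsScalarTower D₁ A A' := IsScalarTower.of_algebraMap_eq fun _ => rfl
  let eE : E₁ →ₐ[D₁] A' := { (A₂.val.comp E₁.val).toRingHom with commutes' := fun _ => rfl }
  let T := A ⊗[D₁] E₁
  let m : T →ₐ[A] A' := Algebra.TensorProduct.lift (Algebra.ofId A A') eE fun _ _ => mul_comm _ _
  have hmA : ∀ a, m (a ⊗ₜ[D₁] 1) = φ a := fun a =>
    (Algebra.TensorProduct.lift_tmul _ _ _ a (1 : E₁)).trans (by rw [map_one, mul_one]; rfl)
  have hmE : ∀ z, m ((1 : A) ⊗ₜ[D₁] z) = ((z : A₂) : A') := fun z =>
    (Algebra.TensorProduct.lift_tmul _ _ _ (1 : A) z).trans (by rw [map_one, one_mul]; rfl)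
  letI algT : Algebra T A' := m.toRingHom.toAlgebra
  haveI : IsScalarTower A T A' := IsScalarTower.of_algebraMap_eq fun a => (hmA a).symm
  haveI : Algebra.Etale A T := inferInstance
  haveI : Algebra.Etale T A' := Algebra.Etale.of_restrictScalars A T A'
  have hmbij : Function.Bijective m := by
    refine bijective_of_points m.toRingHom (RingHom.etale_algebraMap.2 ‹Algebra.Etale T A'›) (fun K _ _ ω => ?_)
      fun K _ u u' h => ?_
    · let a : A →+* K := ω.comp (algebraMap A T)
      let y : E₁ →+* K := ω.comp (Algebra.TensorProduct.includeRight : E₁ →ₐ[D₁] T).toRingHom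
      obtain ⟨x, hx⟩ := exists_extend (R := R) (A := A₂) (G := G) y
      obtain ⟨g, hg⟩ := exists_smul_of_eq_on_inv (R := R) (G := G) (x.comp φ₁.toRingHom) (a.comp A₁.val.toRingHom)
        fun z hz => by
          have h1 : x (φ₁ z) = ω ((1 : A) ⊗ₜ[D₁] φD ⟨z, hz⟩) := RingHom.congr_fun hx (φD ⟨z, hz⟩)
          change x (φ₁ z) = ω ((z : A) ⊗ₜ[D₁] (1 : E₁))
          rw [h1]
          exact congrArg ω ((Algebra.TensorProduct.includeRight : E₁ →ₐ[D₁] T).commutes ⟨z, hz⟩)
      obtain ⟨u, hu1, hu2⟩ := hlift K a (x.comp (MulSemiringAction.toRingHom G A₂ g)) fun b hb => by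
        change a b = x (g • φ₁ ⟨b, hb⟩)
        rw [← hφ₁]
        exact hg ⟨b, hb⟩
      refine ⟨u, RingHom.ext fun t => ?_⟩
      change u (m t) = ω t
      induction t using TensorProduct.induction_on with
      | zero => rw [map_zero m, RingHom.map_zero, RingHom.map_zero]
      | add s t hs ht => rw [map_add m, RingHom.map_add, hs, ht, RingHom.map_add]
      | tmul b z =>
        have e : (b ⊗ₜ[D₁] z : T) = (b ⊗ₜ[D₁] (1 : E₁)) * ((1 : A) ⊗ₜ[D₁] z) := by
          rw [Algebra.TensorProduct.tmul_mul_tmul, mul_one, one_mul]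
        rw [e, map_mul m, RingHom.map_mul, RingHom.map_mul, hmA, hmE, hu1, hu2]
        congr 1
        change x (g • (z : A₂)) = _
        rw [z.2 g]
        exact RingHom.congr_fun hx z
    · have hA : ∀ a, u (φ a) = u' (φ a) := fun a => by
        rw [← hmA]; exact RingHom.congr_fun h _
      have hE : ∀ z : E₁, u ((z : A₂) : A') = u' ((z : A₂) : A') := fun z => by
        rw [← hmE]; exact RingHom.congr_fun h _
      refine hext K u u' hA fun y hy => ?_
      obtain ⟨g, hg⟩ := exists_smul_of_eq_on_inv (R := R) (G := G) (u.comp A₂.val.toRingHom) (u'.comp A₂.val.toRingHom)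
        fun z hz => hE ⟨z, hz⟩
      have h2 := hin g K (u.comp A₂.val.toRingHom) (fun a ha hga => by
        change u (φ (g • a)) = u (φ a)
        rw [hA a, hφ]
        exact (hg ⟨φ a, hle a ha⟩).symm) y hy (hs₂ g y hy)
      exact ((hg ⟨y, hy⟩).trans h2).symm
  -- invariants
  letI : Algebra B A' := (φ.toRingHom.comp B.val.toRingHom).toAlgebra
  haveI : IsScalarTower B A A' := IsScalarTower.of_algebraMap_eq fun _ => rfl
  haveI : IsScalarTower B B' A' := IsScalarTower.of_algebraMap_eq fun b => (hcompat b).symm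
  haveI : IsScalarTower D₁ B A' := IsScalarTower.of_algebraMap_eq fun _ => rfl
  letI : Algebra D₁ B' := ((algebraMap B B').comp (algebraMap D₁ B)).toAlgebra
  haveI : IsScalarTower D₁ B B' := IsScalarTower.of_algebraMap_eq fun _ => rfl
  let eB : E₁ →ₐ[D₁] B' := { ι₂.toRingHom with
    commutes' := fun d => Subtype.ext ((hcompat (ι₁ d)).symm) }
  let C := B ⊗[D₁] E₁
  let κ : C →ₐ[B] B' := Algebra.TensorProduct.lift (Algebra.ofId B B') eB fun _ _ => mul_comm _ _
  let M : C ⊗[B] A →ₐ[B] A' :=
    Algebra.TensorProduct.lift ((IsScalarTower.toAlgHom B B' A').comp κ) (IsScalarTower.toAlgHom B A A')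
      fun _ _ => mul_comm _ _
  let ε : C ⊗[B] A →ₐ[B] T :=
    ((Algebra.TensorProduct.cancelBaseChange D₁ B A A E₁).toAlgHom.restrictScalars B).comp
      (Algebra.TensorProduct.comm B C A).toAlgHom
  have hεb : Function.Bijective ε := by
    exact ((Algebra.TensorProduct.cancelBaseChange D₁ B A A E₁).bijective).comp
      (Algebra.TensorProduct.comm B C A).bijective
  have hMε : ∀ z, M z = m (ε z) := fun z => by
    induction z using TensorProduct.induction_on with
    | zero => simp
    | add a b ha hb => rw [map_add, map_add, map_add, ha, hb]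
    | tmul q a =>
      induction q using TensorProduct.induction_on with
      | zero => simp
      | add a' b' ha hb => rw [TensorProduct.add_tmul, map_add, map_add, map_add, ha, hb]
      | tmul b z =>
        simp only [M, ε, κ, m, AlgHom.comp_apply, Algebra.TensorProduct.lift_tmul, AlgEquiv.toAlgHom_eq_coe,
          AlgHom.restrictScalars_apply, AlgHom.coe_coe, Algebra.TensorProduct.comm_tmul,
          Algebra.TensorProduct.cancelBaseChange_tmul]
        change ((algebraMap B B' b * eB z : B') : A') * φ a = φ (b • a) * ((z : A₂) : A')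
        rw [MulMemClass.coe_mul, hcompat, Algebra.smul_def, map_mul]
        change φ b * ((z : A₂) : A') * φ a = φ b * φ a * ((z : A₂) : A')
        ring
  have hMb : Function.Bijective M := by
    have : (M : C ⊗[B] A → A') = m ∘ ε := funext hMε
    rw [this]
    exact hmbij.comp hεb
  haveI : Algebra.Etale B C := inferInstance
  haveI : Module.Flat B C := inferInstance
  obtain ⟨hinjC, hinvC⟩ := CAlg48.InvPol.tensor_invariants B A C
    (fun g : G => MulSemiringAction.toAlgHom B A g) Subtype.val_injective fun y hy => ⟨⟨y, hy⟩, rfl⟩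
  have hMC : ∀ q, M (algebraMap C (C ⊗[B] A) q) = (κ q : A') := fun q =>
    (Algebra.TensorProduct.lift_tmul _ _ _ q (1 : A)).trans (by rw [map_one, mul_one]; rfl)
  have hMg : ∀ (g : G) z,
      M (Algebra.TensorProduct.map (AlgHom.id B C) (MulSemiringAction.toAlgHom B A g) z) = g • M z := fun g z => by
    induction z using TensorProduct.induction_on with
    | zero => simp
    | add a b ha hb => rw [map_add, map_add, ha, hb, ← smul_add, ← map_add]
    | tmul q a =>
      simp only [M, Algebra.TensorProduct.map_tmul, Algebra.TensorProduct.lift_tmul, AlgHom.id_apply, smul_mul']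
      change (κ q : A') * φ (g • a) = g • (κ q : A') * g • φ a
      rw [hφ, (κ q).2 g]
  have hκ : Function.Bijective κ := by
    refine ⟨fun a b hab => hinjC (hMb.1 (by rw [hMC, hMC, hab])), fun y => ?_⟩
    obtain ⟨z, hz⟩ := hMb.2 (y : A')
    obtain ⟨q, rfl⟩ := hinvC z fun g => hMb.1 (by rw [hMg, hz, y.2 g])
    exact ⟨q, Subtype.ext ((hMC q).symm.trans hz)⟩
  exact Algebra.Etale.of_equiv (AlgEquiv.ofBijective κ hκ)

end Groth.Agent.StFib.ConstQuot
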