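import Groth.Agent.AlgSp.Space
import Groth.Agent.AlgSp.Basic
import Mathlib.AlgebraicGeometry.ZariskisMainTheorem

/-!
# Maps to algebraic spaces are determined after an injective integral extension
-/

set_option autoImplicit false
set_option linter.unusedVariables false
set_option backward.isDefEq.respectTransparency false
set_option backward.isDefEq.respectTransparency.types false

universe u

open CategoryTheory CategoryTheory.Limits AlgebraicGeometry Opposite

namespace Groth.Agent.StFib.ConstQuot

variable {S : Scheme.{u}}

theorem ext_of_integral {X T : Over S} (q : X ⟶ T) [IsAffine X.left] [IsAffine T.left] [IsIntegralHom q.left]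
    [Surjective q.left] (hinj : Function.Injective q.left.appTop) {N : AlgSp.Sp S} (hN : AlgSp.IsAlgSpace N)
    {χ₁ χ₂ : (AlgSp.yon S).obj T ⟶ N}
    (h : (AlgSp.yon S).map q ≫ χ₁ = (AlgSp.yon S).map q ≫ χ₂) : χ₁ = χ₂ := by
  have hd := hN.diag
  let g : (AlgSp.yon S).obj T ⟶ N ⨯ N := prod.lift χ₁ χ₂
  let E := hd.pullback g
  let e : E ⟶ T := hd.snd g
  have sq := hd.isPullback g
  have hmono : Mono e.left := (Groth.Agent.AlgSp.repWith_diag_mono N hd).2 _ _ _ sq
  have hlft : LocallyOfFiniteType e.left := (Groth.Agent.AlgSp.repWith_diag_lft N hN).2 _ _ _ sq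
  obtain ⟨l, hl₁, hl₂⟩ := sq.exists_lift ((AlgSp.yon S).map q ≫ χ₁) ((AlgSp.yon S).map q) (by
    apply prod.hom_ext <;> simp [g, h])
  obtain ⟨l, rfl⟩ := (AlgSp.yon S).map_surjective l
  have hle : l ≫ e = q := (AlgSp.yon S).map_injective (((AlgSp.yon S).map_comp _ _).trans hl₂)
  have hle' : l.left ≫ e.left = q.left := congrArg CommaMorphism.left hle
  have hes : Surjective e.left := by
    have : Surjective (l.left ≫ e.left) := by rw [hle']; infer_instance
    exact Surjective.of_comp l.left e.left
  have hls : Surjective l.left := ⟨fun z => by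
    obtain ⟨x, hx⟩ := Surjective.surj (f := q.left) (e.left z)
    refine ⟨x, e.left.injective ?_⟩
    rw [← Scheme.Hom.comp_apply, hle', hx]⟩
  have hsep : IsSeparated e.left := inferInstance
  have huc : UniversallyClosed e.left := by
    have : UniversallyClosed (l.left ≫ e.left) := by rw [hle']; infer_instance
    exact UniversallyClosed.of_comp_surjective l.left e.left
  have hci : IsClosedImmersion e.left := by
    rw [IsClosedImmersion.iff_isProper_and_mono]
    exact ⟨{}, hmono⟩
  have := hci
  have : IsIso e.left := IsClosedImmersion.isIso_of_injective_of_isAffine fun a b hab => hinj (by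
    rw [← hle', Scheme.Hom.comp_appTop]
    exact congrArg l.left.appTop hab)
  have : IsIso e := by
    have : IsIso ((Over.forget S).map e) := ‹_›
    exact isIso_of_reflects_iso e (Over.forget S)
  have w := sq.w
  have h1 := congrArg (· ≫ prod.fst) w
  have h2 := congrArg (· ≫ prod.snd) w
  simp only [g, Category.assoc, prod.lift_fst, prod.lift_snd, Category.comp_id] at h1 h2
  exact (cancel_epi ((AlgSp.yon S).map e)).1 (h1.symm.trans h2)

end Groth.Agent.StFib.ConstQuot
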