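import Groth.Agent.StFib.ConstQuot.CatQuot
import Groth.Agent.CAlg48.InvPol

/-!
# The quotient stays categorical after a flat affine base change
-/

set_option autoImplicit false
set_option linter.unusedVariables false
set_option linter.unusedSectionVars false
set_option linter.style.haveILetI false
set_option backward.isDefEq.respectTransparency false
set_option backward.isDefEq.respectTransparency.types false
set_option maxHeartbeats 1600000

universe u

open CategoryTheory CategoryTheory.Limits AlgebraicGeometry Opposite MonoidalCategory CartesianMonoidalCategory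
open CoactBr (sp pt pt_comp pt_id pt_injective)
open scoped TensorProduct

namespace Groth.Agent.StFib.ConstQuot

variable {R : Type u} [CommRing R] {A G : Type u} [CommRing A] [Algebra R A] [Group G] [Fintype G] [DecidableEq G]
  [MulSemiringAction G A] [SMulCommClass G R A]

/-- The action on a base change. -/
@[implicit_reducible] noncomputable def tensorAction (C : Type u) [CommRing C] [Algebra (ConstAct.inv R A G) C] :
    MulSemiringAction G (C ⊗[ConstAct.inv R A G] A) :=
    { smul := fun g z => Algebra.TensorProduct.map (AlgHom.id (ConstAct.inv R A G) C) (MulSemiringAction.toAlgHom (ConstAct.inv R A G) A g) z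
      one_smul := fun z => by
        change Algebra.TensorProduct.map (AlgHom.id (ConstAct.inv R A G) C) (MulSemiringAction.toAlgHom (ConstAct.inv R A G) A (1 : G)) z = z
        induction z using TensorProduct.induction_on with
        | zero => rw [map_zero]
        | add a b ha hb => rw [map_add, ha, hb]
        | tmul c a => simp
      mul_smul := fun g g' z => by
        change Algebra.TensorProduct.map (AlgHom.id (ConstAct.inv R A G) C) (MulSemiringAction.toAlgHom (ConstAct.inv R A G) A (g * g')) z =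
          Algebra.TensorProduct.map (AlgHom.id (ConstAct.inv R A G) C) (MulSemiringAction.toAlgHom (ConstAct.inv R A G) A g)
            (Algebra.TensorProduct.map (AlgHom.id (ConstAct.inv R A G) C) (MulSemiringAction.toAlgHom (ConstAct.inv R A G) A g') z)
        induction z using TensorProduct.induction_on with
        | zero => rw [map_zero, map_zero, map_zero]
        | add a b ha hb => rw [map_add, map_add, map_add, ha, hb]
        | tmul c a => simp [mul_smul]
      smul_zero := fun g => map_zero (Algebra.TensorProduct.map (AlgHom.id (ConstAct.inv R A G) C) (MulSemiringAction.toAlgHom (ConstAct.inv R A G) A g))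
      smul_add := fun g => map_add (Algebra.TensorProduct.map (AlgHom.id (ConstAct.inv R A G) C) (MulSemiringAction.toAlgHom (ConstAct.inv R A G) A g))
      smul_one := fun g => map_one (Algebra.TensorProduct.map (AlgHom.id (ConstAct.inv R A G) C) (MulSemiringAction.toAlgHom (ConstAct.inv R A G) A g))
      smul_mul := fun g => map_mul (Algebra.TensorProduct.map (AlgHom.id (ConstAct.inv R A G) C) (MulSemiringAction.toAlgHom (ConstAct.inv R A G) A g)) }

theorem tensorAction_smul (C : Type u) [CommRing C] [Algebra (ConstAct.inv R A G) C] (g : G)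
    (z : C ⊗[ConstAct.inv R A G] A) :
    letI := tensorAction (R := R) (A := A) (G := G) C
    g • z = Algebra.TensorProduct.map (AlgHom.id (ConstAct.inv R A G) C)
      (MulSemiringAction.toAlgHom (ConstAct.inv R A G) A g) z := rfl

attribute [irreducible] tensorAction

theorem existsUnique_of_model [IsNoetherianRing R] {E PE : Over (Spec (CommRingCat.of R))}
    {h : E ⟶ ConstAct.specInv R A G} {p₁ : PE ⟶ E} {p₂ : PE ⟶ ConstAct.specA R A}
    (sq : IsPullback p₁ p₂ h (ConstAct.quot R A G))
    {AC : Type u} [CommRing AC] [Algebra R AC] [MulSemiringAction G AC] [SMulCommClass G R AC]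
    (l : sp R AC ⟶ PE) [IsIso l] (q : sp R (ConstAct.inv R AC G) ⟶ E) [IsIso q]
    (hq : pt (ConstAct.inv R AC G).val ≫ q = l ≫ p₁)
    (h₁ : ∀ g : G, pt (MulSemiringAction.toAlgEquiv R AC g : AC →ₐ[R] AC) ≫ l ≫ p₁ = l ≫ p₁)
    (h₂ : ∀ g : G, pt (MulSemiringAction.toAlgEquiv R AC g : AC →ₐ[R] AC) ≫ l ≫ p₂ =
      l ≫ p₂ ≫ ConstAct.act R A G g)
    (N : AlgSp.Space (Spec (CommRingCat.of R))) (ψ : (AlgSp.yon (Spec (CommRingCat.of R))).obj PE ⟶ N.obj)
    (hψ : ∀ (g : G) (γ : PE ⟶ PE), γ ≫ p₁ = p₁ → γ ≫ p₂ = p₂ ≫ ConstAct.act R A G g →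
      (AlgSp.yon (Spec (CommRingCat.of R))).map γ ≫ ψ = ψ) :
    ∃! χ : (AlgSp.yon (Spec (CommRingCat.of R))).obj E ⟶ N.obj,
      (AlgSp.yon (Spec (CommRingCat.of R))).map p₁ ≫ χ = ψ := by
  have hinv : ∀ g : G, (AlgSp.yon (Spec (CommRingCat.of R))).map (ConstAct.act R AC G g) ≫
      (AlgSp.yon (Spec (CommRingCat.of R))).map l ≫ ψ = (AlgSp.yon (Spec (CommRingCat.of R))).map l ≫ ψ := fun g => by
    obtain ⟨γ, hγ₁, hγ₂⟩ := sq.exists_lift p₁ (p₂ ≫ ConstAct.act R A G g) (by
      rw [Category.assoc, ConstAct.act_quot, sq.w])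
    have hlg : pt (MulSemiringAction.toAlgEquiv R AC g : AC →ₐ[R] AC) ≫ l = l ≫ γ := sq.hom_ext
      (by rw [Category.assoc, Category.assoc, hγ₁, h₁]) (by rw [Category.assoc, Category.assoc, hγ₂, h₂])
    have hact : (AlgSp.yon (Spec (CommRingCat.of R))).map (pt (MulSemiringAction.toAlgEquiv R AC g : AC →ₐ[R] AC)) ≫
        (AlgSp.yon (Spec (CommRingCat.of R))).map l ≫ ψ = (AlgSp.yon (Spec (CommRingCat.of R))).map l ≫ ψ := by
      rw [← Category.assoc, ← Functor.map_comp, hlg, Functor.map_comp, Category.assoc, hψ g γ hγ₁ hγ₂]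
    rw [act_eq_pt]
    exact hact
  let ψ' : (AlgSp.yon (Spec (CommRingCat.of R))).obj (ConstAct.X R AC) ⟶ N.obj :=
    (AlgSp.yon (Spec (CommRingCat.of R))).map l ≫ ψ
  obtain ⟨χ, hχ, huniq⟩ := existsUnique_desc' (R := R) (A := AC) (G := G) N ψ' hinv
  have hquot : (AlgSp.yon (Spec (CommRingCat.of R))).map (pt (ConstAct.inv R AC G).val) ≫ χ =
      (AlgSp.yon (Spec (CommRingCat.of R))).map l ≫ ψ := by
    rw [← quot_eq_pt]
    exact hχ
  refine ⟨(AlgSp.yon (Spec (CommRingCat.of R))).map (inv q) ≫ χ, ?_, fun χ' hχ' => ?_⟩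
  · have e : p₁ ≫ inv q = inv l ≫ pt (ConstAct.inv R AC G).val := by
      rw [IsIso.comp_inv_eq, Category.assoc, hq, IsIso.inv_hom_id_assoc]
    change _ ≫ _ ≫ χ = ψ
    rw [← Category.assoc, ← Functor.map_comp, e, Functor.map_comp, Category.assoc, hquot, ← Category.assoc,
      ← Functor.map_comp, IsIso.inv_hom_id, CategoryTheory.Functor.map_id]
    exact Category.id_comp ψ
  · have e := huniq ((AlgSp.yon (Spec (CommRingCat.of R))).map q ≫ χ') (by
      change (AlgSp.yon (Spec (CommRingCat.of R))).map (ConstAct.quot R AC G) ≫ _ ≫ χ' = _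
      rw [quot_eq_pt]
      have h9 : (AlgSp.yon (Spec (CommRingCat.of R))).map (pt (ConstAct.inv R AC G).val) ≫
          (AlgSp.yon (Spec (CommRingCat.of R))).map q ≫ χ' = (AlgSp.yon (Spec (CommRingCat.of R))).map l ≫ ψ := by
        rw [← Category.assoc, ← Functor.map_comp, hq, Functor.map_comp, Category.assoc, hχ']
      exact h9)
    rw [← e, ← Category.assoc, ← Functor.map_comp, IsIso.inv_hom_id, CategoryTheory.Functor.map_id]
    exact (Category.id_comp χ').symm

theorem existsUnique_desc_flat [IsNoetherianRing R] {E PE : Over (Spec (CommRingCat.of R))} [IsAffine E.left]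
    {h : E ⟶ ConstAct.specInv R A G} {p₁ : PE ⟶ E} {p₂ : PE ⟶ ConstAct.specA R A} (hflat : Flat h.left)
    (sq : IsPullback p₁ p₂ h (ConstAct.quot R A G)) (N : AlgSp.Space (Spec (CommRingCat.of R)))
    (ψ : (AlgSp.yon (Spec (CommRingCat.of R))).obj PE ⟶ N.obj)
    (hψ : ∀ (g : G) (γ : PE ⟶ PE), γ ≫ p₁ = p₁ → γ ≫ p₂ = p₂ ≫ ConstAct.act R A G g →
      (AlgSp.yon (Spec (CommRingCat.of R))).map γ ≫ ψ = ψ) :
    ∃! χ : (AlgSp.yon (Spec (CommRingCat.of R))).obj E ⟶ N.obj,
      (AlgSp.yon (Spec (CommRingCat.of R))).map p₁ ≫ χ = ψ := by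
  let B := ConstAct.inv R A G
  obtain ⟨φ₀, hφ₀⟩ := Spec.map_surjective (E.left.isoSpec.inv ≫ h.left)
  letI : Algebra R Γ(E.left, ⊤) := (φ₀.hom.comp (algebraMap R B)).toAlgebra
  let φ : B →ₐ[R] Γ(E.left, ⊤) := { φ₀.hom with commutes' := fun r => rfl }
  letI : Algebra B Γ(E.left, ⊤) := φ.toRingHom.toAlgebra
  let C := Γ(E.left, ⊤)
  haveI : IsScalarTower R B C := IsScalarTower.of_algHom φ
  haveI : Module.Flat B C := by
    have : Flat (Spec.map φ₀) := by rw [hφ₀]; infer_instance
    exact (HasRingHomProperty.Spec_iff (P := @Flat)).1 this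
  let j : sp R C ⟶ E := Over.homMk E.left.isoSpec.inv (by
    change E.left.isoSpec.inv ≫ E.hom = Spec.map (CommRingCat.ofHom (φ₀.hom.comp (algebraMap R B)))
    rw [← Over.w h, ← Category.assoc, ← hφ₀, CommRingCat.ofHom_comp, Spec.map_comp]
    rfl)
  have hjh : j ≫ h = pt φ := Over.OverMorphism.ext (by rw [CoactBr.pt_left]; exact hφ₀.symm)
  haveI : IsIso j.left := inferInstanceAs (IsIso E.left.isoSpec.inv)
  haveI : IsIso j := by
    have : IsIso ((Over.forget _).map j) := ‹IsIso j.left›
    exact isIso_of_reflects_iso j (Over.forget _)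
  let AC := C ⊗[B] A
  letI : MulSemiringAction G AC := tensorAction (R := R) (A := A) (G := G) C
  haveI : SMulCommClass G R AC := ⟨fun g r z => by
    rw [tensorAction_smul, tensorAction_smul]
    exact map_smul ((Algebra.TensorProduct.map (AlgHom.id B C) (MulSemiringAction.toAlgHom B A g)).restrictScalars R) r z⟩
  let inC : C →ₐ[R] AC := (Algebra.TensorProduct.includeLeft : C →ₐ[B] AC).restrictScalars R
  let inA : A →ₐ[R] AC := (Algebra.TensorProduct.includeRight : A →ₐ[B] AC).restrictScalars R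
  have hC : ∀ (g : G) (c : C), g • inC c = inC c := fun g c => by
    rw [tensorAction_smul]
    change Algebra.TensorProduct.map _ _ (c ⊗ₜ[B] (1 : A)) = c ⊗ₜ[B] (1 : A)
    rw [Algebra.TensorProduct.map_tmul, map_one]
    rfl
  have hA : ∀ (g : G) (a : A), g • inA a = inA (g • a) := fun g a => by
    rw [tensorAction_smul]
    change Algebra.TensorProduct.map _ _ ((1 : C) ⊗ₜ[B] a) = (1 : C) ⊗ₜ[B] (g • a)
    rw [Algebra.TensorProduct.map_tmul, map_one]
    rfl
  obtain ⟨hinj, hrange⟩ := CAlg48.InvPol.tensor_invariants B A C (fun g : G => MulSemiringAction.toAlgHom B A g)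
    Subtype.val_injective fun y hy => ⟨⟨y, hy⟩, rfl⟩
  let ι : C →ₐ[R] ConstAct.inv R AC G := inC.codRestrict _ fun c g => hC g c
  have hι : Function.Bijective ι := by
    refine ⟨fun a b hab => hinj (congrArg Subtype.val hab), fun z => ?_⟩
    obtain ⟨c, hc⟩ := hrange z fun g => (tensorAction_smul C g _).symm.trans (z.2 g)
    exact ⟨c, Subtype.ext hc⟩
  let ιe := AlgEquiv.ofBijective ι hι
  let pι : sp R (ConstAct.inv R AC G) ⟶ sp R C := pt (R := R) (B := C) (K := ConstAct.inv R AC G) ι
  haveI : IsIso pι := by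
    have h1 : IsIso (CommRingCat.ofHom (R := C) (S := ConstAct.inv R AC G) ι.toRingHom) := (ConcreteCategory.isIso_iff_bijective _).2 hι
    have h2 : IsIso (pι).left := inferInstanceAs (IsIso (Spec.map (CommRingCat.ofHom (R := C) (S := ConstAct.inv R AC G) ι.toRingHom)))
    have : IsIso ((Over.forget _).map (pι)) := h2
    exact isIso_of_reflects_iso (pι) (Over.forget _)
  -- the pullback is the spectrum of the tensor product
  obtain ⟨l, hl₁, hl₂⟩ := sq.exists_lift (pt inC ≫ j) (pt inA) (by
    rw [Category.assoc, hjh, quot_eq_pt, ← pt_comp, ← pt_comp]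
    exact congrArg pt (AlgHom.ext fun z => ((Algebra.TensorProduct.includeLeft : C →ₐ[B] AC).commutes z).trans
      ((Algebra.TensorProduct.includeRight : A →ₐ[B] AC).commutes z).symm))
  have sqT : IsPullback (pt inC).left (pt inA).left (pt φ).left (ConstAct.quot R A G).left :=
    isPullback_SpecMap_of_isPushout _ _ _ _ (CommRingCat.isPushout_tensorProduct B C A)
  obtain ⟨k₀, hk₁, hk₂⟩ := sqT.exists_lift (p₁ ≫ inv j).left p₂.left (by
    rw [← Over.comp_left, ← Over.comp_left, ← hjh, Category.assoc, IsIso.inv_hom_id_assoc, sq.w])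
  let k : PE ⟶ sp R AC := Over.homMk k₀ (by
    rw [← Over.w (pt inA), ← Category.assoc, hk₂]
    exact Over.w p₂)
  have hk₁' : k ≫ pt inC = p₁ ≫ inv j := Over.OverMorphism.ext hk₁
  have hk₂' : k ≫ pt inA = p₂ := Over.OverMorphism.ext hk₂
  have hkl : k ≫ l = 𝟙 PE := sq.hom_ext
    (by rw [Category.assoc, hl₁, reassoc_of% hk₁', IsIso.inv_hom_id, Category.comp_id, Category.id_comp])
    (by rw [Category.assoc, hl₂, hk₂', Category.id_comp])
  have hlk : l ≫ k = 𝟙 (sp R AC) := Over.OverMorphism.ext (sqT.hom_ext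
    (by
      change (l ≫ k).left ≫ (pt inC).left = (𝟙 (sp R AC) : sp R AC ⟶ sp R AC).left ≫ (pt inC).left
      rw [← Over.comp_left, ← Over.comp_left, Category.assoc, hk₁', reassoc_of% hl₁, IsIso.hom_inv_id,
        Category.comp_id, Category.id_comp])
    (by
      change (l ≫ k).left ≫ (pt inA).left = (𝟙 (sp R AC) : sp R AC ⟶ sp R AC).left ≫ (pt inA).left
      rw [← Over.comp_left, ← Over.comp_left, Category.assoc, hk₂', hl₂, Category.id_comp]))
  have hlC : ∀ g : G, pt (MulSemiringAction.toAlgEquiv R AC g : AC →ₐ[R] AC) ≫ pt inC = pt inC := fun g =>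
    (pt_comp _ _).symm.trans (congrArg pt (AlgHom.ext fun c => hC g c))
  have hlA : ∀ g : G, pt (MulSemiringAction.toAlgEquiv R AC g : AC →ₐ[R] AC) ≫ pt inA =
      pt inA ≫ ConstAct.act R A G g := fun g => by
    rw [act_eq_pt]
    have e : (MulSemiringAction.toAlgEquiv R AC g : AC →ₐ[R] AC).comp inA =
        inA.comp (MulSemiringAction.toAlgEquiv R A g : A →ₐ[R] A) := AlgHom.ext fun a => hA g a
    exact (pt_comp _ _).symm.trans ((congrArg pt e).trans (pt_comp _ _))
  have hq : pt (ConstAct.inv R AC G).val ≫ pι = pt inC :=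
    (pt_comp _ _).symm.trans (congrArg pt (AlgHom.ext fun c => rfl))
  haveI : IsIso l := ⟨k, hlk, hkl⟩
  refine existsUnique_of_model sq l (pι ≫ j) ?_ (fun g => ?_) (fun g => ?_) N ψ hψ
  · rw [reassoc_of% hq, hl₁]
  · rw [hl₁, ← Category.assoc, hlC g]
  · rw [hl₂, hlA g, reassoc_of% hl₂]

end Groth.Agent.StFib.ConstQuot
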