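import Groth.Agent.StFib.ConstQuot.Basic
import Groth.Agent.CAlg48.InvPol

/-!
# Descent of invariant functions along flat base changes of the quotient
-/

set_option autoImplicit false
set_option linter.unusedVariables false
set_option linter.unusedSectionVars false
set_option linter.style.haveILetI false
set_option backward.isDefEq.respectTransparency false
set_option backward.isDefEq.respectTransparency.types false
set_option maxHeartbeats 800000

universe u

open CategoryTheory CategoryTheory.Limits AlgebraicGeometry Opposite MonoidalCategory CartesianMonoidalCategory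
open CoactBr (sp pt pt_comp pt_id pt_injective)
open scoped TensorProduct

namespace Groth.Agent.StFib.ConstQuot

variable {R : Type u} [CommRing R] {A G : Type u} [CommRing A] [Algebra R A] [Group G] [Fintype G] [DecidableEq G]
  [MulSemiringAction G A] [SMulCommClass G R A]

local notation "B" => ConstAct.inv R A G

/-- An open subscheme over the base. -/
noncomputable abbrev openOver' (U : Over (Spec (CommRingCat.of R))) (O : U.left.Opens) : Over (Spec (CommRingCat.of R)) := Over.mk (O.ι ≫ U.hom)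

/-- The inclusion of an open subscheme over the base. -/
noncomputable abbrev openι' (U : Over (Spec (CommRingCat.of R))) (O : U.left.Opens) : openOver' U O ⟶ U := Over.homMk O.ι rfl

variable {E PE : Over (Spec (CommRingCat.of R))} {h : E ⟶ ConstAct.specInv R A G} {p₁ : PE ⟶ E} {p₂ : PE ⟶ ConstAct.specA R A}

/-- Restriction of the pullback to an affine open. -/
theorem exists_local (hflat : Flat h.left) (sq : IsPullback p₁ p₂ h (ConstAct.quot R A G))
    (O : E.left.Opens) (hO : IsAffineOpen O) :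
    ∃ (C : Type u) (_ : CommRing C) (_ : Algebra R C) (φ : B →ₐ[R] C), φ.toRingHom.Flat ∧
      letI := φ.toRingHom.toAlgebra
      haveI : IsScalarTower R B C := IsScalarTower.of_algHom φ
      ∃ (j : sp R C ⟶ E) (l : sp R (C ⊗[B] A) ⟶ PE), IsOpenImmersion j.left ∧
        Set.range j.left = (O : Set E.left) ∧ j ≫ h = pt φ ∧
        l.left ≫ p₁.left = Spec.map (CommRingCat.ofHom (algebraMap C (C ⊗[B] A))) ≫ j.left ∧
        l.left ≫ p₂.left = Spec.map (CommRingCat.ofHom
          (Algebra.TensorProduct.includeRight : A →ₐ[B] C ⊗[B] A).toRingHom) := by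
  obtain ⟨φ₀, hφ₀⟩ := Spec.map_surjective (hO.fromSpec ≫ h.left)
  letI : Algebra R Γ(E.left, O) := (φ₀.hom.comp (algebraMap R B)).toAlgebra
  let φ : B →ₐ[R] Γ(E.left, O) := { φ₀.hom with commutes' := fun r => rfl }
  letI := φ.toRingHom.toAlgebra
  haveI : IsScalarTower R B Γ(E.left, O) := IsScalarTower.of_algHom φ
  let j : sp R Γ(E.left, O) ⟶ E := Over.homMk hO.fromSpec (by
    change hO.fromSpec ≫ E.hom = Spec.map (CommRingCat.ofHom (φ₀.hom.comp (algebraMap R B)))
    rw [← Over.w h, ← Category.assoc, ← hφ₀, CommRingCat.ofHom_comp, Spec.map_comp]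
    rfl)
  have hjh : j ≫ h = pt φ := Over.OverMorphism.ext (by rw [CoactBr.pt_left]; exact hφ₀.symm)
  let inC : Γ(E.left, O) →ₐ[R] Γ(E.left, O) ⊗[B] A :=
    (Algebra.TensorProduct.includeLeft : Γ(E.left, O) →ₐ[B] Γ(E.left, O) ⊗[B] A).restrictScalars R
  let inA : A →ₐ[R] Γ(E.left, O) ⊗[B] A :=
    (Algebra.TensorProduct.includeRight : A →ₐ[B] Γ(E.left, O) ⊗[B] A).restrictScalars R
  let l := sq.lift (pt inC ≫ j) (pt inA) (by
    rw [Category.assoc, hjh, quot_eq_pt, ← pt_comp, ← pt_comp]
    exact congrArg pt (AlgHom.ext fun z =>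
      ((Algebra.TensorProduct.includeLeft : Γ(E.left, O) →ₐ[B] Γ(E.left, O) ⊗[B] A).commutes z).trans
        ((Algebra.TensorProduct.includeRight : A →ₐ[B] Γ(E.left, O) ⊗[B] A).commutes z).symm))
  refine ⟨Γ(E.left, O), inferInstance, inferInstance, φ, ?_, j, l, inferInstanceAs (IsOpenImmersion hO.fromSpec),
    hO.range_fromSpec, hjh, ?_, ?_⟩
  · have : Flat (Spec.map φ₀) := by
      rw [hφ₀]
      have : IsOpenImmersion hO.fromSpec := inferInstance
      infer_instance
    exact (HasRingHomProperty.Spec_iff (P := @Flat)).1 this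
  · exact congrArg CommaMorphism.left (sq.lift_fst (pt inC ≫ j) (pt inA) _)
  · exact congrArg CommaMorphism.left (sq.lift_snd (pt inC ≫ j) (pt inA) _)

/-- Maps to affine schemes are determined on the pullback of the quotient. -/
theorem desc_affine_uniq (hflat : Flat h.left) (sq : IsPullback p₁ p₂ h (ConstAct.quot R A G)) {Q : Type u}
    [CommRing Q] [Algebra R Q] (σ σ' : E ⟶ sp R Q) (e : p₁ ≫ σ = p₁ ≫ σ') : σ = σ' := by
  refine Over.OverMorphism.ext ((Scheme.openCoverOfIsOpenCover _ (fun O : E.left.affineOpens => O.1)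
    (iSup_affineOpens_eq_top _)).hom_ext _ _ fun O => ?_)
  obtain ⟨C, _, _, φ, hφ, j, l, hji, hjr, hjh, hl₁, hl₂⟩ := exists_local hflat sq O.1 O.2
  letI := φ.toRingHom.toAlgebra
  haveI : Module.Flat B C := hφ
  obtain ⟨a, ha⟩ := exists_pt (j ≫ σ)
  obtain ⟨a', ha'⟩ := exists_pt (j ≫ σ')
  have hinj : Function.Injective (algebraMap C (C ⊗[B] A)) :=
    Algebra.TensorProduct.includeLeft_injective (S := B) Subtype.val_injective
  have haa : a = a' := by
    have h1 : Spec.map (CommRingCat.ofHom a.toRingHom ≫ CommRingCat.ofHom (algebraMap C (C ⊗[B] A))) =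
        Spec.map (CommRingCat.ofHom a'.toRingHom ≫ CommRingCat.ofHom (algebraMap C (C ⊗[B] A))) := by
      rw [Spec.map_comp, Spec.map_comp, ← CoactBr.pt_left, ← CoactBr.pt_left, ha, ha', Over.comp_left, Over.comp_left,
        ← reassoc_of% hl₁, ← reassoc_of% hl₁, ← Over.comp_left, ← Over.comp_left, ← Over.comp_left, e]
      rfl
    exact AlgHom.ext fun z => hinj (congrArg (fun q => q.hom z) (Spec.map_injective h1))
  have hj' : j.left ≫ σ.left = j.left ≫ σ'.left := by
    rw [← Over.comp_left, ← Over.comp_left, ← ha, ← ha', haa]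
  haveI := hji
  let k := IsOpenImmersion.lift j.left O.1.ι (by rw [hjr]; exact (Scheme.Opens.range_ι O.1).le)
  change O.1.ι ≫ σ.left = O.1.ι ≫ σ'.left
  rw [← IsOpenImmersion.lift_fac j.left O.1.ι (by rw [hjr]; exact (Scheme.Opens.range_ι O.1).le), Category.assoc,
    Category.assoc, hj']

/-- Invariant maps to affine schemes descend. -/
theorem desc_affine (hflat : Flat h.left) (sq : IsPullback p₁ p₂ h (ConstAct.quot R A G)) {Q : Type u}
    [CommRing Q] [Algebra R Q] (τ : PE ⟶ sp R Q)
    (hτ : ∀ (g : G) (γ : PE ⟶ PE), γ ≫ p₁ = p₁ → γ ≫ p₂ = p₂ ≫ ConstAct.act R A G g → γ ≫ τ = τ) :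
    ∃ σ : E ⟶ sp R Q, p₁ ≫ σ = τ := by
  -- on each affine open
  have key : ∀ O : E.left.affineOpens, ∃ σ : openOver' E O.1 ⟶ sp R Q,
      ∀ {W : Over (Spec (CommRingCat.of R))} (w : W ⟶ PE) (v : W ⟶ openOver' E O.1), v ≫ openι' E O.1 = w ≫ p₁ → v ≫ σ = w ≫ τ := by
    intro O
    obtain ⟨C, _, _, φ, hφ, j, l, hji, hjr, hjh, hl₁, hl₂⟩ := exists_local hflat sq O.1 O.2
    letI := φ.toRingHom.toAlgebra
    haveI : IsScalarTower R B C := IsScalarTower.of_algHom φ
    haveI : Module.Flat B C := hφ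
    obtain ⟨θ, hθ⟩ := exists_pt (l ≫ τ)
    have hθinv : ∀ (g : G) z,
        Algebra.TensorProduct.map (AlgHom.id B C) (MulSemiringAction.toAlgHom B A g) (θ z) = θ z := fun g z => by
      let mg : C ⊗[B] A →ₐ[R] C ⊗[B] A :=
        (Algebra.TensorProduct.map (AlgHom.id B C) (MulSemiringAction.toAlgHom B A g)).restrictScalars R
      let inC : C →ₐ[R] C ⊗[B] A := (Algebra.TensorProduct.includeLeft : C →ₐ[B] C ⊗[B] A).restrictScalars R
      let inA : A →ₐ[R] C ⊗[B] A := (Algebra.TensorProduct.includeRight : A →ₐ[B] C ⊗[B] A).restrictScalars R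
      obtain ⟨γ, hγ₁, hγ₂⟩ := sq.exists_lift p₁ (p₂ ≫ ConstAct.act R A G g) (by
        rw [Category.assoc, ConstAct.act_quot, sq.w])
      have hl₁' : l ≫ p₁ = pt inC ≫ j := Over.OverMorphism.ext hl₁
      have hl₂' : l ≫ p₂ = pt inA := Over.OverMorphism.ext hl₂
      have hlg : pt mg ≫ l = l ≫ γ := by
        refine sq.hom_ext ?_ ?_
        · rw [Category.assoc, Category.assoc, hγ₁, hl₁', ← Category.assoc, ← pt_comp]
          refine congrArg (fun q => pt q ≫ j) (AlgHom.ext fun c => ?_)
          change Algebra.TensorProduct.map _ _ (c ⊗ₜ[B] (1 : A)) = c ⊗ₜ[B] (1 : A)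
          rw [Algebra.TensorProduct.map_tmul, map_one]
          rfl
        · rw [Category.assoc, Category.assoc, hγ₂, reassoc_of% hl₂', hl₂', act_eq_pt]
          erw [← pt_comp, ← pt_comp]
          refine congrArg pt (AlgHom.ext fun a => ?_)
          change Algebra.TensorProduct.map _ _ ((1 : C) ⊗ₜ[B] a) = (1 : C) ⊗ₜ[B] (g • a)
          rw [Algebra.TensorProduct.map_tmul, map_one]
          rfl
      have h1 : pt (mg.comp θ) = pt θ := by
        rw [pt_comp, hθ, reassoc_of% hlg, hτ g γ hγ₁ hγ₂]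
      exact AlgHom.congr_fun (pt_injective h1) z
    have hrange := fun z => (CAlg48.InvPol.tensor_invariants B A C
      (fun g : G => MulSemiringAction.toAlgHom B A g) Subtype.val_injective fun y hy => ⟨⟨y, hy⟩, rfl⟩).2
        (θ z) (fun g => hθinv g z)
    choose θ₀ hθ₀ using hrange
    have hinj : Function.Injective (algebraMap C (C ⊗[B] A)) :=
      Algebra.TensorProduct.includeLeft_injective (S := B) Subtype.val_injective
    let θ' : Q →ₐ[R] C :=
      { toFun := θ₀
        map_one' := hinj (by rw [hθ₀, map_one, map_one])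
        map_mul' := fun a b => hinj (by rw [hθ₀, map_mul, map_mul, hθ₀, hθ₀])
        map_zero' := hinj (by rw [hθ₀, map_zero, map_zero])
        map_add' := fun a b => hinj (by rw [hθ₀, map_add, map_add, hθ₀, hθ₀])
        commutes' := fun r => hinj (by
          rw [hθ₀, AlgHom.commutes]
          rfl) }
    haveI := hji
    have hsub : Set.range O.1.ι ⊆ Set.range j.left := by rw [hjr]; exact (Scheme.Opens.range_ι O.1).le
    let k : openOver' E O.1 ⟶ sp R C := Over.homMk (IsOpenImmersion.lift j.left O.1.ι hsub) (by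
      rw [← Over.w j, IsOpenImmersion.lift_fac_assoc]
      rfl)
    have hk : k ≫ j = openι' E O.1 := Over.OverMorphism.ext (IsOpenImmersion.lift_fac _ _ _)
    refine ⟨k ≫ pt θ', fun {W} w v hv => ?_⟩
    -- the point factors through the local pullback
    have sqT : IsPullback (Spec.map (CommRingCat.ofHom (algebraMap C (C ⊗[B] A))))
        (Spec.map (CommRingCat.ofHom (Algebra.TensorProduct.includeRight : A →ₐ[B] C ⊗[B] A).toRingHom))
        (Spec.map (CommRingCat.ofHom (algebraMap B C))) (Spec.map (CommRingCat.ofHom (algebraMap B A))) :=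
      isPullback_SpecMap_of_isPushout _ _ _ _ (CommRingCat.isPushout_tensorProduct B C A)
    obtain ⟨w', hw₁, hw₂⟩ := sqT.exists_lift (v ≫ k).left (w ≫ p₂).left (by
      have h3 : (v ≫ k) ≫ pt φ = (w ≫ p₂) ≫ ConstAct.quot R A G := by
        rw [← hjh, Category.assoc, reassoc_of% hk, reassoc_of% hv, sq.w, Category.assoc]
      exact congrArg CommaMorphism.left h3)
    have hwl : w' ≫ l.left = w.left := by
      refine (sq.map (Over.forget (Spec (CommRingCat.of R)))).hom_ext ?_ ?_
      · change (w' ≫ l.left) ≫ p₁.left = w.left ≫ p₁.left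
        rw [Category.assoc, hl₁, ← Category.assoc, hw₁, ← Over.comp_left, ← Over.comp_left, Category.assoc, hk, hv]
      · change (w' ≫ l.left) ≫ p₂.left = w.left ≫ p₂.left
        rw [Category.assoc, hl₂, hw₂, Over.comp_left]
    have hθl : l.left ≫ τ.left = Spec.map (CommRingCat.ofHom θ.toRingHom) := by
      rw [← CoactBr.pt_left, hθ]
      rfl
    refine Over.OverMorphism.ext ?_
    change v.left ≫ k.left ≫ (pt θ').left = w.left ≫ τ.left
    rw [← hwl, Category.assoc, hθl, ← Category.assoc, show v.left ≫ k.left = (v ≫ k).left from rfl, ← hw₁,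
      CoactBr.pt_left, Category.assoc, ← Spec.map_comp]
    exact congrArg (w' ≫ ·) (congrArg Spec.map (CommRingCat.hom_ext (RingHom.ext fun z => hθ₀ z)))
  choose σ hσ using key
  -- glue
  let 𝒰 := Scheme.openCoverOfIsOpenCover _ (fun O : E.left.affineOpens => O.1) (iSup_affineOpens_eq_top _)
  have hcompat : ∀ O O' : E.left.affineOpens,
      pullback.fst O.1.ι O'.1.ι ≫ (σ O).left = pullback.snd O.1.ι O'.1.ι ≫ (σ O').left := by
    intro O O'
    let E' : Over (Spec (CommRingCat.of R)) := Over.mk (pullback.fst O.1.ι O'.1.ι ≫ O.1.ι ≫ E.hom)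
    let a : E' ⟶ openOver' E O.1 := Over.homMk (pullback.fst O.1.ι O'.1.ι) rfl
    let a' : E' ⟶ openOver' E O'.1 := Over.homMk (pullback.snd O.1.ι O'.1.ι) (by
      change pullback.snd O.1.ι O'.1.ι ≫ O'.1.ι ≫ E.hom = pullback.fst O.1.ι O'.1.ι ≫ O.1.ι ≫ E.hom
      rw [← reassoc_of% pullback.condition (f := O.1.ι) (g := O'.1.ι)])
    have haa : a ≫ openι' E O.1 = a' ≫ openι' E O'.1 := Over.OverMorphism.ext pullback.condition
    let i := a ≫ openι' E O.1
    have hoi : IsOpenImmersion i.left :=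
      inferInstanceAs (IsOpenImmersion (pullback.fst O.1.ι O'.1.ι ≫ O.1.ι))
    have hflat' : Flat (i ≫ h).left := by
      rw [Over.comp_left]
      have := hflat
      infer_instance
    have sq' := IsPullback.of_hasPullback i p₁
    have := desc_affine_uniq hflat' (sq'.paste_vert sq) (a ≫ σ O) (a' ≫ σ O') ?_
    · exact congrArg CommaMorphism.left this
    · rw [← Category.assoc, ← Category.assoc]
      rw [hσ O (pullback.snd i p₁) _ (by rw [Category.assoc, ← sq'.w]),
        hσ O' (pullback.snd i p₁) _ (by rw [Category.assoc, ← haa, ← sq'.w])]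
  let σ₀ : E.left ⟶ (sp R Q).left := 𝒰.glueMorphisms (fun O => (σ O).left) hcompat
  have hσ₀ : ∀ O : E.left.affineOpens, O.1.ι ≫ σ₀ = (σ O).left := fun O => 𝒰.ι_glueMorphisms _ hcompat O
  refine ⟨Over.homMk σ₀ (𝒰.hom_ext _ _ fun O => ?_), Over.OverMorphism.ext ?_⟩
  · change O.1.ι ≫ σ₀ ≫ (sp R Q).hom = O.1.ι ≫ E.hom
    rw [reassoc_of% (hσ₀ O), Over.w (σ O)]
    rfl
  · refine (Scheme.openCoverOfIsOpenCover _ (fun O : E.left.affineOpens => p₁.left ⁻¹ᵁ O.1) ?_).hom_ext _ _ fun O => ?_
    · exact TopologicalSpace.Opens.ext (Set.eq_univ_of_forall fun x => by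
        obtain ⟨O, hO⟩ := TopologicalSpace.Opens.mem_iSup.1
          ((iSup_affineOpens_eq_top E.left).symm ▸ trivial : p₁.left x ∈ (⨆ O : E.left.affineOpens, O.1))
        exact TopologicalSpace.Opens.mem_iSup.2 ⟨O, hO⟩)
    let v : openOver' PE (p₁.left ⁻¹ᵁ O.1) ⟶ openOver' E O.1 := Over.homMk (p₁.left ∣_ O.1) (by
      change (p₁.left ∣_ O.1) ≫ O.1.ι ≫ E.hom = (p₁.left ⁻¹ᵁ O.1).ι ≫ PE.hom
      rw [morphismRestrict_ι_assoc, Over.w p₁])
    have hv := hσ O (openι' PE (p₁.left ⁻¹ᵁ O.1)) v (Over.OverMorphism.ext (morphismRestrict_ι _ _))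
    have hv' := congrArg CommaMorphism.left hv
    change (p₁.left ⁻¹ᵁ O.1).ι ≫ p₁.left ≫ σ₀ = (p₁.left ⁻¹ᵁ O.1).ι ≫ τ.left
    rw [← morphismRestrict_ι_assoc, hσ₀]
    exact hv'

end Groth.Agent.StFib.ConstQuot
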