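import Groth.Agent.StFib.ConstQuot.Chart
import Groth.Agent.StFib.ConstQuot.Ext
import Groth.Agent.StFib.YonGlue
import Groth.Agent.StFib.ConstQuot.EtaleInv

/-!
# The invariants of an invariant chart
-/

set_option autoImplicit false
set_option linter.unusedVariables false
set_option linter.unusedSectionVars false
set_option linter.style.haveILetI false
set_option backward.isDefEq.respectTransparency false
set_option backward.isDefEq.respectTransparency.types false
set_option maxHeartbeats 1600000

universe u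

open CategoryTheory CategoryTheory.Limits AlgebraicGeometry Opposite MonoidalCategory CartesianMonoidalCategory
open CoactBr (sp pt pt_comp pt_id pt_injective)
open scoped TensorProduct

namespace Groth.Agent.StFib.ConstQuot

variable {R : Type u} [CommRing R] {A G : Type u} [CommRing A] [Algebra R A] [Group G] [Fintype G] [DecidableEq G]
  [MulSemiringAction G A] [SMulCommClass G R A]

local notation "SR" => Spec (CommRingCat.of R)
local notation "Y" => AlgSp.yon (Spec (CommRingCat.of R))
local notation "B" => ConstAct.inv R A G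

/-- A prime is the kernel of a geometric point. -/
theorem exists_geom_point {T : Type u} [CommRing T] (Q : PrimeSpectrum T) :
    ∃ (K : Type u) (_ : Field K) (_ : IsAlgClosed K) (ω : T →+* K), ∀ t, ω t = 0 ↔ t ∈ Q.asIdeal :=
  ⟨AlgebraicClosure Q.asIdeal.ResidueField, inferInstance, inferInstance,
    (algebraMap Q.asIdeal.ResidueField _).comp (algebraMap T Q.asIdeal.ResidueField), fun t => by
    rw [RingHom.comp_apply, map_eq_zero]
    exact Ideal.algebraMap_residueField_eq_zero⟩

omit [Fintype G] [DecidableEq G] in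
/-- The map of invariants induced by an equivariant map. -/
noncomputable def invMap {A' : Type u} [CommRing A'] [Algebra R A'] [MulSemiringAction G A'] [SMulCommClass G R A']
    (φ : A →ₐ[R] A') (hφ : ∀ (g : G) (a : A), φ (g • a) = g • φ a) :
    ConstAct.inv R A G →ₐ[R] ConstAct.inv R A' G :=
  (φ.comp (ConstAct.inv R A G).val).codRestrict _ fun z g => by
    change g • φ (z : A) = φ (z : A)
    rw [← hφ, z.2 g]

theorem isIntegralHom_quot : IsIntegralHom (ConstAct.quot R A G).left := by
  change IsIntegralHom (Spec.map (CommRingCat.ofHom (ConstAct.inv R A G).val.toRingHom))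
  rw [IsIntegralHom.SpecMap_iff]
  exact fun a => instIntegral.isIntegral a

theorem surjective_quot : Surjective (ConstAct.quot R A G).left := by
  change Surjective (Spec.map (CommRingCat.ofHom (ConstAct.inv R A G).val.toRingHom))
  exact ⟨RingHom.IsIntegral.comap_surjective (f := (ConstAct.inv R A G).val.toRingHom)
    (fun a => instIntegral.isIntegral a) Subtype.val_injective⟩

theorem quot_appTop_injective : Function.Injective (ConstAct.quot R A G).left.appTop := by
  have h := Scheme.ΓSpecIso_naturality (CommRingCat.ofHom (ConstAct.inv R A G).val.toRingHom)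
  intro a b hab
  refine (Scheme.ΓSpecIso _).commRingCatIsoToRingEquiv.injective (Subtype.val_injective ?_)
  have ha := congrArg (fun q => q.hom a) h
  have hb := congrArg (fun q => q.hom b) h
  simp only [CommRingCat.hom_comp, RingHom.comp_apply] at ha hb
  exact ha.symm.trans ((congrArg _ hab).trans hb)

/-- The etale neighbourhood of the invariants given by a chart, with its map to the algebraic space. -/
theorem exists_invChart [IsNoetherianRing R] {N : AlgSp.Sp SR} (hN : AlgSp.IsAlgSpace N)
    (ψ : (Y).obj (sp R A) ⟶ N) (hψ : ∀ g : G, (Y).map (ConstAct.act R A G g) ≫ ψ = ψ) (c : Chart (G := G) ψ) :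
    Etale (pt (invMap c.φ c.equiv)).left ∧
      ∃ χ' : (Y).obj (sp R (ConstAct.inv R c.A' G)) ⟶ N,
        ∀ (C : Type u) [CommRing C] [Algebra R C] (a : A →ₐ[R] C) (b : ConstAct.inv R c.A' G →ₐ[R] C),
          a.comp (ConstAct.inv R A G).val = b.comp (invMap c.φ c.equiv) →
          (Y).map (pt a) ≫ ψ = (Y).map (pt b) ≫ χ' := by
  let B' := ConstAct.inv R c.A' G
  letI algA : Algebra A c.A' := c.φ.toRingHom.toAlgebra
  haveI : IsScalarTower R A c.A' := IsScalarTower.of_algHom c.φ
  haveI hetA : Algebra.Etale A c.A' := RingHom.etale_algebraMap.1 c.etale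
  letI algB : Algebra B B' := (invMap c.φ c.equiv).toRingHom.toAlgebra
  haveI : IsScalarTower B B' c.A' := IsScalarTower.of_algebraMap_eq fun z => rfl
  haveI : IsScalarTower R B B' := IsScalarTower.of_algHom (invMap c.φ c.equiv)
  haveI : IsScalarTower B A c.A' := IsScalarTower.of_algebraMap_eq fun z => rfl
  have hJ : ∀ (g : G) (x : c.A'), g • x - x ∈ Ideal.span (Set.range fun a : A => c.φ (g • a - a)) := fun g => by
    let J : Ideal c.A' := Ideal.span (Set.range fun a : A => c.φ (g • a - a))
    let mk : c.A' →ₐ[R] c.A' ⧸ J := Ideal.Quotient.mkₐ R J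
    have e := c.sep (c.A' ⧸ J) (mk.comp (MulSemiringAction.toAlgEquiv R c.A' g : c.A' →ₐ[R] c.A')) mk
      (AlgHom.ext fun a => (Ideal.Quotient.eq).2 (by
        change g • c.φ a - c.φ a ∈ J
        rw [← c.equiv, ← map_sub]
        exact Ideal.subset_span ⟨a, rfl⟩))
      (by rw [pt_comp, Category.assoc, c.inv_v])
    exact fun z => (Ideal.Quotient.eq).1 (AlgHom.congr_fun e z)
  haveI hetB : Algebra.Etale B B' :=
    etale_invariants c.φ c.equiv c.etale hJ fun b => rfl
  refine ⟨?_, ?_⟩
  · rw [CoactBr.pt_left]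
    exact (HasRingHomProperty.Spec_iff (P := @Etale)).2 (RingHom.etale_algebraMap.2 hetB)
  -- the invariant map to the affine scheme factors through the invariants
  let θ : Γ(c.V.left, ⊤) ⟶ CommRingCat.of c.A' :=
    Spec.preimage (c.v.left ≫ c.V.left.isoSpec.hom : Spec (CommRingCat.of c.A') ⟶ Spec Γ(c.V.left, ⊤))
  have hθ : Spec.map θ = c.v.left ≫ c.V.left.isoSpec.hom := Spec.map_preimage _
  have hθinv : ∀ (g : G) z, g • θ.hom z = θ.hom z := fun g z => by
    have h1 : Spec.map (θ ≫ CommRingCat.ofHom
        (MulSemiringAction.toAlgEquiv R c.A' g : c.A' →ₐ[R] c.A').toRingHom) = Spec.map θ := by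
      rw [Spec.map_comp, hθ, ← CoactBr.pt_left, ← Category.assoc]
      exact congrArg (· ≫ _) (congrArg CommaMorphism.left (c.inv_v g))
    exact congrArg (fun q => q.hom z) (Spec.map_injective h1)
  let θ' : Γ(c.V.left, ⊤) ⟶ CommRingCat.of B' :=
    CommRingCat.ofHom (θ.hom.codRestrict B'.toSubring fun z g => hθinv g z)
  have hθ' : θ' ≫ CommRingCat.ofHom B'.val.toRingHom = θ := rfl
  let ν₀ : Spec (CommRingCat.of B') ⟶ c.V.left := Spec.map θ' ≫ c.V.left.isoSpec.inv
  have hν₀ : Spec.map (CommRingCat.ofHom B'.val.toRingHom) ≫ ν₀ = c.v.left := by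
    rw [← Category.assoc, ← Spec.map_comp, hθ', hθ, Category.assoc, Iso.hom_inv_id, Category.comp_id]
  obtain ⟨ρ, hρ⟩ := Spec.map_surjective (ν₀ ≫ c.V.hom)
  have hρ' : ρ = CommRingCat.ofHom (algebraMap R B') := by
    have h2 : Spec.map (ρ ≫ CommRingCat.ofHom B'.val.toRingHom) =
        Spec.map (CommRingCat.ofHom (algebraMap R c.A')) := by
      rw [Spec.map_comp, hρ, ← Category.assoc, hν₀]
      exact Over.w c.v
    refine CommRingCat.hom_ext (RingHom.ext fun r => Subtype.ext ?_)
    exact congrArg (fun q => q.hom r) (Spec.map_injective h2)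
  let ν : sp R B' ⟶ c.V := Over.homMk ν₀ (by rw [← hρ, hρ']; rfl)
  have hν : pt B'.val ≫ ν = c.v := Over.OverMorphism.ext (by
    rw [Over.comp_left, CoactBr.pt_left]
    exact hν₀)
  refine ⟨(Y).map ν ≫ c.χ, ?_⟩
  have hχ' : (Y).map (pt B'.val) ≫ (Y).map ν ≫ c.χ = (Y).map (pt c.φ) ≫ ψ := by
    rw [← Category.assoc, ← Functor.map_comp, hν, c.comm]
  -- the universal case
  let T := A ⊗[B] B'
  let inA : A →ₐ[R] T := (Algebra.TensorProduct.includeLeft : A →ₐ[B] T).restrictScalars R
  let inB : B' →ₐ[R] T := (Algebra.TensorProduct.includeRight : B' →ₐ[B] T).restrictScalars R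
  let m : T →ₐ[B] c.A' :=
    Algebra.TensorProduct.lift (IsScalarTower.toAlgHom B A c.A') (IsScalarTower.toAlgHom B B' c.A')
      fun _ _ => mul_comm _ _
  have hmA : ∀ a, m (inA a) = c.φ a := fun a =>
    (Algebra.TensorProduct.lift_tmul _ _ _ a (1 : B')).trans (by rw [map_one, mul_one]; rfl)
  have hmB : ∀ b, m (inB b) = (b : c.A') := fun b =>
    (Algebra.TensorProduct.lift_tmul _ _ _ (1 : A) b).trans (by rw [map_one, one_mul]; rfl)
  letI algT : Algebra T c.A' := m.toRingHom.toAlgebra
  haveI : IsScalarTower A T c.A' := IsScalarTower.of_algebraMap_eq fun a => (hmA a).symm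
  haveI : Algebra.Etale T c.A' := Algebra.Etale.of_restrictScalars A T c.A'
  let mR : T →ₐ[R] c.A' := m.restrictScalars R
  have hmEt : Etale (pt mR).left := by
    rw [CoactBr.pt_left]
    exact (HasRingHomProperty.Spec_iff (P := @Etale)).2 (RingHom.etale_algebraMap.2 ‹Algebra.Etale T c.A'›)
  have hmSurj : Surjective (pt mR).left := by
    rw [CoactBr.pt_left]
    refine ⟨fun (Q : PrimeSpectrum T) => ?_⟩
    obtain ⟨K, _, _, ω, hω⟩ := exists_geom_point Q
    obtain ⟨x, hx⟩ := exists_extend (R := R) (A := c.A') (G := G) (ω.comp inB.toRingHom)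
    obtain ⟨g, hg⟩ := exists_smul_of_eq_on_inv (R := R) (x.comp c.φ.toRingHom) (ω.comp inA.toRingHom)
      fun a ha => by
        have h1 : x (c.φ a) = ω (inB (invMap c.φ c.equiv ⟨a, ha⟩)) :=
          RingHom.congr_fun hx (invMap c.φ c.equiv ⟨a, ha⟩)
        change x (c.φ a) = ω (inA a)
        refine h1.trans (congrArg ω ?_)
        exact ((Algebra.TensorProduct.includeRight : B' →ₐ[B] T).commutes ⟨a, ha⟩).trans
          ((Algebra.TensorProduct.includeLeft : A →ₐ[B] T).commutes ⟨a, ha⟩).symm
    let x' : c.A' →+* K := x.comp (MulSemiringAction.toRingHom G c.A' g)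
    have hx' : ∀ t : T, x' (m t) = ω t := fun t => by
      induction t using TensorProduct.induction_on with
      | zero => rw [map_zero, map_zero, map_zero]
      | add s t hs ht => rw [map_add, map_add, hs, ht, map_add]
      | tmul a b =>
        have e : (a ⊗ₜ[B] b : T) = inA a * inB b := by
          change a ⊗ₜ[B] b = (a ⊗ₜ[B] (1 : B')) * ((1 : A) ⊗ₜ[B] b)
          rw [Algebra.TensorProduct.tmul_mul_tmul, mul_one, one_mul]
        rw [e, map_mul, map_mul, map_mul, hmA, hmB]
        congr 1
        · change x (g • c.φ a) = _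
          rw [← c.equiv]
          exact (hg a).symm
        · change x (g • (b : c.A')) = _
          rw [b.2 g]
          exact RingHom.congr_fun hx b
    refine ⟨⟨RingHom.ker x', RingHom.ker_isPrime x'⟩, PrimeSpectrum.ext (Ideal.ext fun t => ?_)⟩
    change x' (m t) = 0 ↔ t ∈ Q.asIdeal
    rw [hx']
    exact hω t
  haveI := hmEt
  haveI := hmSurj
  have huniv : (Y).map (pt inA) ≫ ψ = (Y).map (pt inB) ≫ (Y).map ν ≫ c.χ := by
    refine Glue.ext_of_cover (R := Sieve.generate (Presieve.singleton (pt mR)))
      (Groth.Agent.AlgSp.mem_of_fppf (pt mR) ⟨_, 𝟙 _, _, Presieve.singleton_self _, Category.id_comp _⟩) ?_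
    rintro W _ ⟨W', h, _, hh, rfl⟩
    cases hh
    have e1 : (Y).map (pt mR) ≫ (Y).map (pt inA) ≫ ψ = (Y).map (pt c.φ) ≫ ψ := by
      rw [← Category.assoc, ← Functor.map_comp, ← pt_comp, show mR.comp inA = c.φ from AlgHom.ext hmA]
    have e2 : (Y).map (pt mR) ≫ (Y).map (pt inB) ≫ (Y).map ν ≫ c.χ = (Y).map (pt B'.val) ≫ (Y).map ν ≫ c.χ := by
      rw [← Category.assoc, ← Functor.map_comp, ← pt_comp, show mR.comp inB = B'.val from AlgHom.ext hmB]
    rw [Functor.map_comp, Category.assoc, Category.assoc, e1, e2, hχ']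
  intro C _ _ a b hab
  letI : Algebra B C := (a.comp (ConstAct.inv R A G).val).toRingHom.toAlgebra
  let a' : A →ₐ[B] C := { a with commutes' := fun z => rfl }
  let b' : B' →ₐ[B] C := { b with commutes' := fun z => (AlgHom.congr_fun hab z).symm }
  let l : T →ₐ[B] C := Algebra.TensorProduct.lift a' b' fun _ _ => mul_comm _ _
  haveI : IsScalarTower R B C := IsScalarTower.of_algHom (a.comp (ConstAct.inv R A G).val)
  let lR : T →ₐ[R] C := l.restrictScalars R
  have hla : lR.comp inA = a := AlgHom.ext fun x =>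
    (Algebra.TensorProduct.lift_tmul a' b' (fun _ _ => mul_comm _ _) x (1 : B')).trans (by rw [map_one, mul_one]; rfl)
  have hlb : lR.comp inB = b := AlgHom.ext fun x =>
    (Algebra.TensorProduct.lift_tmul a' b' (fun _ _ => mul_comm _ _) (1 : A) x).trans (by rw [map_one, one_mul]; rfl)
  rw [← hla, ← hlb, pt_comp, pt_comp, Functor.map_comp, Functor.map_comp, Category.assoc, Category.assoc, huniv]

end Groth.Agent.StFib.ConstQuot
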