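import Groth.Prelude.Def_ConstAct
import Mathlib.RingTheory.Smooth.NoetherianDescent
import Mathlib.RingTheory.Flat.Basic
import Mathlib.RingTheory.RingHom.Etale

/-!
# Models of finite type of equivariant etale maps
-/

set_option autoImplicit false
set_option linter.unusedVariables false
set_option linter.style.haveILetI false
set_option maxHeartbeats 1600000

universe u

open scoped TensorProduct

namespace Groth.Agent.StFib.ConstQuot

variable {R A A' G : Type u} [CommRing R] [CommRing A] [Algebra R A] [CommRing A'] [Algebra R A'] [Group G]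
  [MulSemiringAction G A] [SMulCommClass G R A] [MulSemiringAction G A'] [SMulCommClass G R A']

/-- The action on a stable subalgebra. -/
@[reducible] def subAction (T : Subalgebra R A) (hT : ∀ (g : G) (a : A), a ∈ T → g • a ∈ T) : MulSemiringAction G T where
  smul g a := ⟨g • (a : A), hT g a a.2⟩
  one_smul a := Subtype.ext (one_smul G (a : A))
  mul_smul g h a := Subtype.ext (mul_smul g h (a : A))
  smul_zero g := Subtype.ext (smul_zero g)
  smul_add g a b := Subtype.ext (smul_add g (a : A) (b : A))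
  smul_one g := Subtype.ext (smul_one g)
  smul_mul g a b := Subtype.ext (MulSemiringAction.smul_mul g (a : A) (b : A))

/-- An equivariant etale map with the inertia condition has a stable model of finite type with the same properties. -/
theorem exists_model [Finite G] (φ : A →ₐ[R] A') (hφ : ∀ (g : G) (a : A), φ (g • a) = g • φ a)
    (het : φ.toRingHom.Etale)
    (hJ : ∀ (g : G) (x : A'), g • x - x ∈ Ideal.span (Set.range fun a : A => φ (g • a - a))) :
    ∃ (A₁ : Subalgebra R A) (A₂ : Subalgebra R A') (hle : ∀ a ∈ A₁, φ a ∈ A₂), A₁.FG ∧ A₂.FG ∧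
      (∀ (g : G) (a : A), a ∈ A₁ → g • a ∈ A₁) ∧ (∀ (g : G) (y : A'), y ∈ A₂ → g • y ∈ A₂) ∧
      ((φ.comp A₁.val).codRestrict A₂ fun a => hle a a.2).toRingHom.Etale ∧
      (∀ (D : Type u) [CommRing D] (u u' : A' →+* D), (∀ a, u (φ a) = u' (φ a)) →
        (∀ y ∈ A₂, u y = u' y) → u = u') ∧
      (∀ (D : Type u) [CommRing D] (a : A →+* D) (x : A₂ →+* D),
        (∀ (b : A) (hb : b ∈ A₁), a b = x ⟨φ b, hle b hb⟩) →
        ∃ u : A' →+* D, (∀ b, u (φ b) = a b) ∧ ∀ y : A₂, u y = x y) ∧
      (∀ (g : G) (D : Type u) [CommRing D] (x : A₂ →+* D),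
        (∀ (a : A) (ha : a ∈ A₁) (hga : g • a ∈ A₁), x ⟨φ (g • a), hle _ hga⟩ = x ⟨φ a, hle a ha⟩) →
        ∀ (y : A') (hy : y ∈ A₂) (hgy : g • y ∈ A₂), x ⟨g • y, hgy⟩ = x ⟨y, hy⟩) := by
  classical
  cases nonempty_fintype G
  letI : Algebra A A' := φ.toRingHom.toAlgebra
  haveI : IsScalarTower R A A' := IsScalarTower.of_algHom φ
  haveI : Algebra.Etale A A' := RingHom.etale_algebraMap.1 het
  obtain ⟨A₀, B₀, _, _, hA₀, hB₀, ⟨e⟩⟩ := Algebra.Etale.exists_subalgebra_fg R A A'
  let f : B₀ →ₐ[A₀] A' :=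
    (e.symm.toAlgHom.restrictScalars A₀).comp (Algebra.TensorProduct.includeRight : B₀ →ₐ[A₀] A ⊗[A₀] B₀)
  obtain ⟨s, hs⟩ := (inferInstance : Algebra.FiniteType A₀ B₀).out
  obtain ⟨t, ht⟩ := hA₀
  -- generators over `A`
  have hgen : Algebra.adjoin A (f '' (s : Set B₀)) = ⊤ := by
    rw [eq_top_iff]
    rintro x -
    obtain ⟨z, rfl⟩ := e.symm.surjective x
    induction z using TensorProduct.induction_on with
    | zero => rw [map_zero]; exact zero_mem _
    | add a b ha hb => rw [map_add]; exact add_mem ha hb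
    | tmul a b =>
      have hb : f b ∈ Algebra.adjoin A (f '' (s : Set B₀)) := by
        have : b ∈ Algebra.adjoin A₀ (s : Set B₀) := hs ▸ trivial
        induction this using Algebra.adjoin_induction with
        | mem y hy => exact Algebra.subset_adjoin ⟨y, hy, rfl⟩
        | algebraMap r =>
          rw [AlgHom.commutes, IsScalarTower.algebraMap_apply A₀ A A']
          exact Subalgebra.algebraMap_mem _ _
        | add y z _ _ hy hz => rw [map_add]; exact add_mem hy hz
        | mul y z _ _ hy hz => rw [map_mul]; exact mul_mem hy hz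
      have : (a ⊗ₜ[A₀] b : A ⊗[A₀] B₀) = a • ((1 : A) ⊗ₜ[A₀] b) := by
        rw [TensorProduct.smul_tmul', smul_eq_mul, mul_one]
      rw [this, map_smul]
      exact Subalgebra.smul_mem _ hb a
  have hpoly : ∀ x : A', ∃ P : MvPolynomial s A, MvPolynomial.aeval (fun b : s => f b) P = x := fun x => by
    have hx : x ∈ (MvPolynomial.aeval (R := A) (fun b : s => f b)).range := by
      rw [← Algebra.adjoin_range_eq_range_aeval]
      have : Set.range (fun b : s => f b) = f '' (s : Set B₀) := by
        ext; simp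
      rw [this, hgen]
      trivial
    exact hx
  choose P hP using hpoly
  have hsupp : ∀ (g : G) (b : s), ∃ c : A →₀ A', (c.sum fun a z => z * φ (g • a - a)) = g • f b - f b :=
    fun g b => Finsupp.mem_ideal_span_range_iff_exists_finsupp.1 (hJ g _)
  choose c hc using hsupp
  let T₀ : Finset A := t ∪ (Finset.univ.biUnion fun q : G × s =>
    Finset.image (MvPolynomial.coeff · (P (q.1 • f q.2))) (P (q.1 • f q.2)).support ∪ (c q.1 q.2).support ∪
      (c q.1 q.2).support.biUnion fun a =>
        Finset.image (MvPolynomial.coeff · (P (c q.1 q.2 a))) (P (c q.1 q.2 a)).support)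
  let T : Finset A := Finset.univ.biUnion fun g : G => T₀.image (g • ·)
  let A₁ := Algebra.adjoin R (T : Set A)
  have hT₀ : ∀ a ∈ T₀, a ∈ A₁ := fun a ha => Algebra.subset_adjoin
    (Finset.mem_biUnion.2 ⟨1, Finset.mem_univ _, Finset.mem_image.2 ⟨a, ha, one_smul _ _⟩⟩)
  have hA₁ : ∀ (g : G) (a : A), a ∈ A₁ → g • a ∈ A₁ := fun g a ha => by
    induction ha using Algebra.adjoin_induction with
    | mem y hy =>
      obtain ⟨h, -, hy⟩ := Finset.mem_biUnion.1 hy
      obtain ⟨z, hz, rfl⟩ := Finset.mem_image.1 hy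
      exact Algebra.subset_adjoin (Finset.mem_biUnion.2 ⟨g * h, Finset.mem_univ _,
        Finset.mem_image.2 ⟨z, hz, mul_smul g h z⟩⟩)
    | algebraMap r => rw [smul_algebraMap]; exact Subalgebra.algebraMap_mem _ _
    | add y z _ _ hy hz => rw [smul_add]; exact add_mem hy hz
    | mul y z _ _ hy hz => rw [smul_mul']; exact mul_mem hy hz
  have h01 : A₀ ≤ A₁ := by
    rw [← ht]
    exact Algebra.adjoin_le fun a ha => hT₀ a (Finset.mem_union_left _ ha)
  let A₂ := Algebra.adjoin R (φ '' (T : Set A) ∪ f '' (s : Set B₀))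
  have hle : ∀ a ∈ A₁, φ a ∈ A₂ := fun a ha => by
    induction ha using Algebra.adjoin_induction with
    | mem y hy => exact Algebra.subset_adjoin (Or.inl ⟨y, hy, rfl⟩)
    | algebraMap r => rw [AlgHom.commutes]; exact Subalgebra.algebraMap_mem _ _
    | add y z _ _ hy hz => rw [map_add]; exact add_mem hy hz
    | mul y z _ _ hy hz => rw [map_mul]; exact mul_mem hy hz
  have hfs : ∀ b : s, f b ∈ A₂ := fun b => Algebra.subset_adjoin (Or.inr ⟨b, b.2, rfl⟩)
  have heval : ∀ Q : MvPolynomial s A, (∀ d ∈ Q.support, Q.coeff d ∈ A₁) →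
      MvPolynomial.aeval (fun b : s => f b) Q ∈ A₂ := fun Q hQ => by
    rw [MvPolynomial.aeval_def, MvPolynomial.eval₂_eq]
    exact sum_mem fun d hd => mul_mem (hle _ (hQ d hd)) (prod_mem fun b _ => pow_mem (hfs b) _)
  have hmemgf : ∀ (g : G) (b : s), g • f b ∈ A₂ := fun g b => by
    rw [← hP (g • f b)]
    exact heval _ fun d hd => hT₀ _ (Finset.mem_union_right _ (Finset.mem_biUnion.2 ⟨(g, b), Finset.mem_univ _,
      Finset.mem_union_left _ (Finset.mem_union_left _ (Finset.mem_image.2 ⟨d, hd, rfl⟩))⟩))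
  have hmemc : ∀ (g : G) (b : s), ∀ a ∈ (c g b).support, a ∈ A₁ ∧ c g b a ∈ A₂ := fun g b a ha => by
    refine ⟨hT₀ _ (Finset.mem_union_right _ (Finset.mem_biUnion.2 ⟨(g, b), Finset.mem_univ _,
      Finset.mem_union_left _ (Finset.mem_union_right _ ha)⟩)), ?_⟩
    rw [← hP (c g b a)]
    exact heval _ fun d hd => hT₀ _ (Finset.mem_union_right _ (Finset.mem_biUnion.2 ⟨(g, b), Finset.mem_univ _,
      Finset.mem_union_right _ (Finset.mem_biUnion.2 ⟨a, ha, Finset.mem_image.2 ⟨d, hd, rfl⟩⟩)⟩))
  have hA₂ : ∀ (g : G) (y : A'), y ∈ A₂ → g • y ∈ A₂ := fun g y hy => by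
    induction hy using Algebra.adjoin_induction with
    | mem y hy =>
      rcases hy with ⟨a, ha, rfl⟩ | ⟨b, hb, rfl⟩
      · rw [← hφ]
        exact hle _ (hA₁ g a (Algebra.subset_adjoin ha))
      · exact hmemgf g ⟨b, hb⟩
    | algebraMap r => rw [smul_algebraMap]; exact Subalgebra.algebraMap_mem _ _
    | add y z _ _ hy hz => rw [smul_add]; exact add_mem hy hz
    | mul y z _ _ hy hz => rw [smul_mul']; exact mul_mem hy hz
  let φ₁ : A₁ →ₐ[R] A₂ := (φ.comp A₁.val).codRestrict A₂ fun a => hle a a.2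
  have hfmem : ∀ b : B₀, f b ∈ A₂ := fun b => by
    have : b ∈ Algebra.adjoin A₀ (s : Set B₀) := hs ▸ trivial
    induction this using Algebra.adjoin_induction with
    | mem y hy => exact hfs ⟨y, hy⟩
    | algebraMap r =>
      rw [AlgHom.commutes, IsScalarTower.algebraMap_apply A₀ A A']
      exact hle _ (h01 r.2)
    | add y z _ _ hy hz => rw [map_add]; exact add_mem hy hz
    | mul y z _ _ hy hz => rw [map_mul]; exact mul_mem hy hz
  refine ⟨A₁, A₂, hle, ⟨T, rfl⟩, ⟨Finset.image φ T ∪ Finset.image f s, by simp [A₂]⟩, hA₁, hA₂, ?_, ?_, ?_, ?_⟩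
  · letI : Algebra A₁ A₂ := φ₁.toRingHom.toAlgebra
    letI : Algebra A₀ A₁ := (Subalgebra.inclusion h01).toRingHom.toAlgebra
    letI : Algebra A₀ A₂ := (φ₁.comp (Subalgebra.inclusion h01)).toRingHom.toAlgebra
    haveI : IsScalarTower A₀ A₁ A₂ := IsScalarTower.of_algebraMap_eq fun _ => rfl
    haveI : IsScalarTower A₀ A₁ A := IsScalarTower.of_algebraMap_eq fun _ => rfl
    let f' : B₀ →ₐ[A₀] A₂ :=
      { toFun := fun b => ⟨f b, hfmem b⟩
        map_one' := Subtype.ext (map_one f)
        map_mul' := fun a b => Subtype.ext (map_mul f a b)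
        map_zero' := Subtype.ext (map_zero f)
        map_add' := fun a b => Subtype.ext (map_add f a b)
        commutes' := fun r => Subtype.ext ((f.commutes r).trans (IsScalarTower.algebraMap_apply A₀ A A' r)) }
    let μ : A₁ ⊗[A₀] B₀ →ₐ[A₁] A₂ := Algebra.TensorProduct.lift (Algebra.ofId A₁ A₂) f' fun _ _ => mul_comm _ _
    have hμ : ∀ z, (μ z : A') = e.symm (TensorProduct.map (IsScalarTower.toAlgHom A₀ A₁ A).toLinearMap LinearMap.id z) := by
      intro z
      induction z using TensorProduct.induction_on with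
      | zero => simp
      | add a b ha hb => rw [map_add, map_add, map_add, ← ha, ← hb]; rfl
      | tmul a b =>
        change φ (a : A) * f b = e.symm ((a : A) ⊗ₜ[A₀] b)
        have : ((a : A) ⊗ₜ[A₀] b : A ⊗[A₀] B₀) = (a : A) • ((1 : A) ⊗ₜ[A₀] b) := by
          rw [TensorProduct.smul_tmul', smul_eq_mul, mul_one]
        rw [this, map_smul, Algebra.smul_def]
        rfl
    have hμb : Function.Bijective μ := by
      refine ⟨fun a b h => ?_, fun y => ?_⟩
      · have hj : Function.Injective (TensorProduct.map (IsScalarTower.toAlgHom A₀ A₁ A).toLinearMap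
            (LinearMap.id : B₀ →ₗ[A₀] B₀)) :=
          Module.Flat.rTensor_preserves_injective_linearMap (M := B₀) _ Subtype.val_injective
        refine hj (e.symm.injective ?_)
        rw [← hμ, ← hμ, h]
      · suffices hy : ∀ y ∈ A₂, ∃ z, (μ z : A') = y from
          (hy y y.2).imp fun z hz => Subtype.ext hz
        intro y hy
        induction hy using Algebra.adjoin_induction with
        | mem y hy =>
          rcases hy with ⟨a, ha, rfl⟩ | ⟨b, hb, rfl⟩
          · exact ⟨algebraMap A₁ _ ⟨a, Algebra.subset_adjoin ha⟩, by rw [AlgHom.commutes]; rfl⟩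
          · refine ⟨1 ⊗ₜ[A₀] b, ?_⟩
            refine (hμ _).trans ?_
            rw [TensorProduct.map_tmul, AlgHom.toLinearMap_apply, map_one, LinearMap.id_apply]
            rfl
        | algebraMap r =>
          exact ⟨algebraMap A₁ _ (algebraMap R A₁ r), by rw [AlgHom.commutes]; exact φ.commutes r⟩
        | add y z _ _ hy hz =>
          obtain ⟨a, rfl⟩ := hy; obtain ⟨b, rfl⟩ := hz
          exact ⟨a + b, by rw [map_add]; rfl⟩
        | mul y z _ _ hy hz =>
          obtain ⟨a, rfl⟩ := hy; obtain ⟨b, rfl⟩ := hz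
          exact ⟨a * b, by rw [map_mul]; rfl⟩
    exact RingHom.etale_algebraMap.2 (Algebra.Etale.of_equiv (AlgEquiv.ofBijective μ hμb))
  · intro D _ u u' h1 h2
    ext x
    have hx : x ∈ Algebra.adjoin A (f '' (s : Set B₀)) := hgen ▸ trivial
    induction hx using Algebra.adjoin_induction with
    | mem y hy =>
      obtain ⟨b, hb, rfl⟩ := hy
      exact h2 _ (hfs ⟨b, hb⟩)
    | algebraMap r => exact h1 r
    | add y z _ _ hy hz => rw [map_add, map_add, hy, hz]
    | mul y z _ _ hy hz => rw [map_mul, map_mul, hy, hz]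
  · intro D _ a x h
    letI : Algebra A₀ D := (a.comp (algebraMap A₀ A)).toAlgebra
    let fx : B₀ →ₐ[A₀] D :=
      { toFun := fun b => x ⟨f b, hfmem b⟩
        map_one' := (congrArg x (Subtype.ext (map_one f))).trans (map_one x)
        map_mul' := fun b b' => (congrArg x (Subtype.ext (map_mul f b b'))).trans (map_mul x _ _)
        map_zero' := (congrArg x (Subtype.ext (map_zero f))).trans (map_zero x)
        map_add' := fun b b' => (congrArg x (Subtype.ext (map_add f b b'))).trans (map_add x _ _)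
        commutes' := fun r => (congrArg x (Subtype.ext ((f.commutes r).trans
          (IsScalarTower.algebraMap_apply A₀ A A' r)))).trans (h r (h01 r.2)).symm }
    let aA : A →ₐ[A₀] D := { a with commutes' := fun r => rfl }
    let u : A' →+* D := (Algebra.TensorProduct.lift aA fx fun _ _ => mul_comm _ _).toRingHom.comp e.toRingEquiv.toRingHom
    have hu1 : ∀ b, u (φ b) = a b := fun b => by
      have e1 : e (φ b) = b ⊗ₜ[A₀] (1 : B₀) := e.commutes b
      refine (congrArg _ e1).trans ((Algebra.TensorProduct.lift_tmul aA fx (fun _ _ => mul_comm _ _) b (1 : B₀)).trans ?_)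
      rw [map_one, mul_one]
      rfl
    refine ⟨u, hu1, fun y => ?_⟩
    obtain ⟨y, hy⟩ := y
    change u y = _
    induction hy using Algebra.adjoin_induction with
    | mem y hy =>
      rcases hy with ⟨b, hb, rfl⟩ | ⟨b, hb, rfl⟩
      · rw [hu1]; exact h b (Algebra.subset_adjoin hb)
      · change Algebra.TensorProduct.lift aA fx (fun _ _ => mul_comm _ _) (e (e.symm ((1 : A) ⊗ₜ[A₀] b))) = _
        rw [AlgEquiv.apply_symm_apply]
        refine (Algebra.TensorProduct.lift_tmul aA fx (fun _ _ => mul_comm _ _) (1 : A) b).trans ?_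
        rw [map_one, one_mul]
        rfl
    | algebraMap r =>
      have e1 := h (algebraMap R A r) (Subalgebra.algebraMap_mem _ _)
      refine ((congrArg u (φ.commutes r).symm).trans ((hu1 _).trans e1)).trans (congrArg x (Subtype.ext ?_))
      exact φ.commutes r
    | add y z hy' hz' hy hz =>
      rw [map_add, hy, hz, ← map_add]
      rfl
    | mul y z hy' hz' hy hz =>
      rw [map_mul, hy, hz, ← map_mul]
      rfl
  · intro g D _ x h
    intro y hy
    induction hy using Algebra.adjoin_induction with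
    | mem y hy =>
      intro hgy
      rcases hy with ⟨a, ha, rfl⟩ | ⟨b, hb, rfl⟩
      · refine (congrArg x (Subtype.ext (hφ g a).symm)).trans
          ((h a (Algebra.subset_adjoin ha) (hA₁ g a (Algebra.subset_adjoin ha))))
      · let C : A → A₂ := fun a => if ha : a ∈ (c g ⟨b, hb⟩).support then
          ⟨c g ⟨b, hb⟩ a * φ (g • a - a),
            mul_mem (hmemc g _ a ha).2 (hle _ (sub_mem (hA₁ g a (hmemc g _ a ha).1) (hmemc g _ a ha).1))⟩ else 0
        have hsum : (⟨g • f b, hgy⟩ : A₂) - ⟨f b, hfmem b⟩ = ∑ a ∈ (c g ⟨b, hb⟩).support, C a := by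
          refine Subtype.ext ?_
          rw [AddSubmonoidClass.coe_finsetSum]
          change g • f b - f b = _
          rw [← hc g ⟨b, hb⟩]
          refine Finset.sum_congr rfl fun a ha => ?_
          simp only [C, dif_pos ha]
        have h0 := congrArg x hsum
        rw [map_sub, map_sum, Finset.sum_eq_zero fun a ha => ?_] at h0
        · exact sub_eq_zero.1 h0
        · simp only [C, dif_pos ha]
          have hza := (hmemc g ⟨b, hb⟩ a ha).1
          have : (⟨c g ⟨b, hb⟩ a * φ (g • a - a),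
              mul_mem (hmemc g _ a ha).2 (hle _ (sub_mem (hA₁ g a hza) hza))⟩ : A₂) =
              ⟨c g ⟨b, hb⟩ a, (hmemc g _ a ha).2⟩ * (⟨φ (g • a), hle _ (hA₁ g a hza)⟩ - ⟨φ a, hle a hza⟩) :=
            Subtype.ext (congrArg (c g ⟨b, hb⟩ a * ·) (map_sub φ (g • a) a))
          rw [this, map_mul, map_sub, h a hza (hA₁ g a hza), sub_self, mul_zero]
    | algebraMap r =>
      intro hgy
      exact congrArg x (Subtype.ext (smul_algebraMap g r))
    | add y z hy' hz' hy hz =>
      intro hgy
      have e : (⟨g • (y + z), hgy⟩ : A₂) = ⟨g • y, hA₂ g y hy'⟩ + ⟨g • z, hA₂ g z hz'⟩ := Subtype.ext (smul_add g y z)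
      rw [e, map_add, hy (hA₂ g y hy'), hz (hA₂ g z hz'), ← map_add]
      rfl
    | mul y z hy' hz' hy hz =>
      intro hgy
      have e : (⟨g • (y * z), hgy⟩ : A₂) = ⟨g • y, hA₂ g y hy'⟩ * ⟨g • z, hA₂ g z hz'⟩ := Subtype.ext (smul_mul' g y z)
      rw [e, map_mul, hy (hA₂ g y hy'), hz (hA₂ g z hz'), ← map_mul]
      rfl

end Groth.Agent.StFib.ConstQuot
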